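import Cfsg.Agent.H149.Sp.Th
import Cfsg.Agent.CpAutMSeven.Hex
import Cfsg.Agent.SigZeroHN.Main
import Cfsg.Agent.H149.Sp.Leech
import Cfsg.Agent.H603.SporElim
import Cfsg.Agent.H393.Iso.HS
import Cfsg.Agent.HN.CoverUnique
import Cfsg.Agent.FastGrp
import Cfsg.Agent.Prune
set_option linter.all false

section
prune_inst 0x7f00000000000000000000000000000000000000000000000000000000000000000000000000000000000000000000000000000000000000000000000000000000000000000000000000000000000000003fffffffffffffffffffffffffffbeffbdffffffff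

-- part: H149/Sp/HN
section
set_option linter.all false
open scoped Cfsg.Agent.FastGrp

/-!
# `HN`: 7 is not adjacent to 11 and 19

`exists_hn_seven`: `HN` contains an element of order 7 whose centralizer has order dividing `7 |He|` (from the Monster).
-/

set_option autoImplicit false
set_option maxRecDepth 100000

open Subgroup

namespace Cfsg.Agent.H149.Sp

open Cfsg Cfsg.Agent.H393.Iso Cfsg.Agent.H163.PG
open Cfsg.Agent.LThreeMB (fr XX Zx KChart.Cent KChart.pi KChart.chart)
open Cfsg.Agent.MonsterX Cfsg.Agent.MonsterX.Model Cfsg.Agent.MonsterX.MainSimple Cfsg.Agent.MonsterX.MainPack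
open Cfsg.Agent.MonsterX.MainBasic Cfsg.Agent.MonsterU
open Cfsg.Agent.MonsterU.Lam2 Cfsg.Agent.H573.Spor
open Cfsg.Spor (Co1)

/-- if `z` is the only involution commuting with `z` then all involutions are conjugate to `z` -/
theorem conj_of_only {D : Type*} [Group D] [Finite D] {z : D} (hz : orderOf z = 2)
    (h : ∀ w : D, w * z = z * w → orderOf w = 2 → w = z) {t : D} (ht : orderOf t = 2) : ∃ d, d * t * d⁻¹ = z := by
  have hf : Fact (Nat.Prime 2) := ⟨Nat.prime_two⟩
  have hZ : IsPGroup 2 (zpowers z) := by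
    rw [IsPGroup.iff_card]
    exact ⟨1, by rw [Nat.card_zpowers, hz, pow_one]⟩
  obtain ⟨P, hP⟩ := hZ.exists_le_sylow
  have hzP : z ∈ (P : Subgroup D) := hP (mem_zpowers z)
  have hnt : Nontrivial (P : Subgroup D) := by
    refine ⟨⟨⟨z, hzP⟩, 1, fun e => ?_⟩⟩
    have e1 : z = 1 := congrArg Subtype.val e
    rw [e1, orderOf_one] at hz
    norm_num at hz
  have hcen := P.2.center_nontrivial
  obtain ⟨w, hw⟩ := exists_prime_orderOf_dvd_card' (G := center (P : Subgroup D)) 2 (by
    have h1 : IsPGroup 2 (center (P : Subgroup D)) := P.2.to_subgroup _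
    obtain ⟨n, hn⟩ := IsPGroup.iff_card.1 h1
    have h2 : 1 < Nat.card (center (P : Subgroup D)) := Finite.one_lt_card
    rcases n with _ | n
    · rw [hn, pow_zero] at h2
      exact absurd h2 (lt_irrefl _)
    · rw [hn, pow_succ]
      exact dvd_mul_left _ _)
  have hwc := mem_center_iff.1 w.2
  have hw1 : ((w : (P : Subgroup D)) : D) = z := by
    refine h _ (congrArg Subtype.val (hwc ⟨z, hzP⟩)).symm ?_
    rw [orderOf_coe, orderOf_coe, hw]
  -- a conjugate of `t` in `P`
  have hT : IsPGroup 2 (zpowers t) := by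
    rw [IsPGroup.iff_card]
    exact ⟨1, by rw [Nat.card_zpowers, ht, pow_one]⟩
  have hi : ¬ 2 ∣ (P : Subgroup D).index := P.not_dvd_index
  obtain ⟨g, hg⟩ := exists_conj_mem Nat.prime_two hi ht
  refine ⟨g⁻¹, ?_⟩
  rw [inv_inv]
  refine h _ ?_ ?_
  · have h1 := congrArg Subtype.val (hwc ⟨_, hg⟩)
    rw [← hw1]
    exact h1
  · rw [← ht]
    have h1 := orderOf_injective (MulAut.conj g⁻¹).toMonoidHom (MulAut.conj g⁻¹).injective t
    rw [← h1]
    congr 1
    show g⁻¹ * t * g = g⁻¹ * t * g⁻¹⁻¹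
    rw [inv_inv]

/-- commuting in a central quotient of coprime exponent -/
theorem comm_of_comm {Y T : Type*} [Group Y] [Group T] (π : Y →* T) {m n : ℕ}
    (hmn : Nat.Coprime m n) (hk : ∀ c, π c = 1 → c ^ m = 1 ∧ ∀ d, c * d = d * c) {x c : Y} (hx : x ^ n = 1)
    (hc : π c * π x = π x * π c) : c * x = x * c := by
  have h2 : π (x⁻¹ * (c * x * c⁻¹)) = 1 := by
    rw [map_mul, map_mul, map_mul, map_inv, map_inv, hc]
    group
  obtain ⟨h3, h4⟩ := hk _ h2
  set z := x⁻¹ * (c * x * c⁻¹) with hz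
  have h5 : c * x * c⁻¹ = x * z := by rw [hz]; group
  have h6 : (c * x * c⁻¹) ^ n = 1 := by rw [conj_pow, hx, mul_one, mul_inv_cancel]
  rw [h5] at h6
  have h7 : Commute x z := (h4 x).symm
  rw [h7.mul_pow, hx, one_mul] at h6
  have h8 : z = 1 := by
    rw [← orderOf_eq_one_iff]
    have h9 := Nat.dvd_gcd (orderOf_dvd_of_pow_eq_one h3) (orderOf_dvd_of_pow_eq_one h6)
    rw [hmn] at h9
    exact Nat.dvd_one.1 h9
  rw [h8, mul_one] at h5
  calc c * x = c * x * c⁻¹ * c := by group
    _ = x * c := by rw [h5]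

/-- lifting elements of order prime to the kernel -/
theorem exists_lift_pow {Y T : Type*} [Group Y] [Group T] (π : Y →* T) (hπ : Function.Surjective π) {m n k l : ℕ}
    (hk : ∀ c, π c = 1 → c ^ m = 1) (he : m * k = n * l + 1) {a : T} (ha : a ^ n = 1) :
    ∃ x : Y, π x = a ∧ x ^ n = 1 := by
  obtain ⟨c, rfl⟩ := hπ a
  refine ⟨c ^ (m * k), ?_, ?_⟩
  · rw [map_pow, he, pow_add, pow_mul, ha, one_pow, one_mul, pow_one]
  · have h1 : (c ^ n) ^ m = 1 := hk _ (by rw [map_pow, ha])
    rw [← pow_mul, show m * k * n = n * m * k by ring, pow_mul, pow_mul, h1, one_pow]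

theorem orderOf_cj {X : Type*} [Group X] (g x : X) : orderOf (g * x * g⁻¹) = orderOf x :=
  orderOf_injective (MulAut.conj g).toMonoidHom (MulAut.conj g).injective x

theorem comm_cj {X : Type*} [Group X] (g : X) {x y : X} (h : x * y = y * x) :
    (g * x * g⁻¹) * (g * y * g⁻¹) = (g * y * g⁻¹) * (g * x * g⁻¹) := by
  calc g * x * g⁻¹ * (g * y * g⁻¹) = g * (x * y) * g⁻¹ := by group
    _ = g * (y * x) * g⁻¹ := by rw [h]
    _ = _ := by group

/-- **The centralizer of `x` of order 7** in the Monster, if `x` commutes with an involution `t` which is not conjugate to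
`z`. -/
theorem isoHe_of_not_conj {x t : ↥InstData.M.G} (hx : orderOf x = 7) (ht : orderOf t = 2) (hxt : x * t = t * x)
    (hnz : ∀ g : ↥InstData.M.G, g * KDone.K.z * g⁻¹ ≠ t) : Nat.card (centralizer ({x} : Set ↥InstData.M.G)) =
      4030387200 * 7 := by
  have := Monster.finite
  have hev : ¬ Odd (Nat.card ↥(centralizer ({x} : Set ↥InstData.M.G))) := by
    rw [Nat.not_odd_iff_even, even_iff_two_dvd]
    have h1 : orderOf (⟨t, mem_cent.2 hxt.symm⟩ : centralizer ({x} : Set ↥InstData.M.G)) = 2 := by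
      rw [← ht, ← orderOf_coe]
    exact h1 ▸ orderOf_dvd_natCard _
  obtain ⟨g, hg⟩ := CpAutMSeven.Hex.hex hx hev
  -- conjugate into `C(z)`
  have h1 : (g⁻¹ * x * g⁻¹⁻¹) * KDone.K.z = KDone.K.z * (g⁻¹ * x * g⁻¹⁻¹) := by
    have h2 := comm_cj g⁻¹ hg
    have h3 : g⁻¹ * (g * KDone.K.z * g⁻¹) * g⁻¹⁻¹ = KDone.K.z := by group
    rw [h3] at h2
    exact h2.symm
  let x' : centralizer ({KDone.K.z} : Set ↥InstData.M.G) := ⟨g⁻¹ * x * g⁻¹⁻¹, mem_cent.2 h1⟩
  have hx' : orderOf x' = 7 := by rw [← orderOf_coe, ← hx]; exact orderOf_cj _ _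
  obtain ⟨⟨e⟩, -⟩ := Cfsg.Agent.LThreeMB.exists_XX_equiv (show g⁻¹ * x * g⁻¹⁻¹ = (x' : ↥InstData.M.G) from rfl)
  rw [Nat.card_congr e.toEquiv]
  rcases CpAutMSeven.Ranks.hranks _ (MFive.orderOf_pi (KChart.chart KDone.lft Cfsg.Agent.PreUniq.MonRow.cent)
    (by norm_num) (by decide) hx') with hfr | hfr
  · exfalso
    -- `z` is the only involution of `C(x') ∩ C(z)`
    have hx7 : x' ^ 7 = 1 := by rw [← hx', pow_orderOf_eq_one]
    have hzx : KDone.K.z * (x' : ↥InstData.M.G) = x' * KDone.K.z := h1.symm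
    let zD : centralizer ({(x' : ↥InstData.M.G)} : Set ↥InstData.M.G) := ⟨KDone.K.z, mem_cent.2 hzx⟩
    have hch := KChart.chart KDone.lft Cfsg.Agent.PreUniq.MonRow.cent
    have hz2 : orderOf KDone.K.z = 2 := two_of_sq hch.large.z_sq hch.large.z_ne
    have hzD : orderOf zD = 2 := by rw [← orderOf_coe]; exact hz2
    let tD : centralizer ({(x' : ↥InstData.M.G)} : Set ↥InstData.M.G) := ⟨g⁻¹ * t * g⁻¹⁻¹, mem_cent.2
      (comm_cj g⁻¹ hxt.symm)⟩
    have htD : orderOf tD = 2 := by rw [← orderOf_coe, ← ht]; exact orderOf_cj _ _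
    obtain ⟨d, hd⟩ := conj_of_only hzD (fun w hwz hw => by
      have hwz' : (w : ↥InstData.M.G) * KDone.K.z = KDone.K.z * w := congrArg Subtype.val hwz
      apply Subtype.ext
      have hw2 : orderOf (w : ↥InstData.M.G) = 2 := by rw [orderOf_coe, hw]
      have := PreUniq.MonSeven.only_inv KDone.lft Cfsg.Agent.PreUniq.MonRow.cent (x := x')
        (t := ⟨(w : ↥InstData.M.G), mem_cent.2 hwz'⟩) hx7 hfr (Subtype.ext (sq_of_two hw2))
        (fun h => ne_one_of_two hw2 (congrArg Subtype.val h)) (Subtype.ext (mem_cent.1 w.2).symm)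
      exact this) htD
    have hd' : (d : ↥InstData.M.G) * (g⁻¹ * t * g⁻¹⁻¹) * (d : ↥InstData.M.G)⁻¹ = KDone.K.z := congrArg Subtype.val hd
    refine hnz (g * (d : ↥InstData.M.G)⁻¹) ?_
    have key : ∀ Z : ↥InstData.M.G, (d : ↥InstData.M.G) * (g⁻¹ * t * g⁻¹⁻¹) * (d : ↥InstData.M.G)⁻¹ = Z →
        g * (d : ↥InstData.M.G)⁻¹ * Z * (g * (d : ↥InstData.M.G)⁻¹)⁻¹ = t := by
      rintro _ rfl
      group
    exact key _ hd'
  · have hHe : Cfsg.Spor.IsoHe (XX (x' : ↥InstData.M.G)) :=
      Cfsg.Agent.BpRankZero.MSix.isoHe_of hx' hfr (Cfsg.Agent.CpAutMSeven.SixRow.heHyp _ hx' hfr)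
    rw [card_XX, Monster.card_He hHe]
    congr 1
    rw [orderOf_coe, hx']

/-- an element of order 7 of `HN` whose centralizer has order dividing `7 |He|` -/
theorem exists_hn_seven : ∃ a : Spor.HN, orderOf a = 7 ∧ Nat.card (centralizer ({a} : Set Spor.HN)) ∣ 4030387200 * 7 := by
  have := Monster.finite
  obtain ⟨y, hy, ⟨e⟩⟩ := Monster.exists_five
  let π : centralizer ({y} : Set ↥InstData.M.G) →* Spor.HN := e.toMonoidHom.comp (QuotientGroup.mk' (Zx y))
  have hπ : Function.Surjective π := e.surjective.comp (QuotientGroup.mk'_surjective _)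
  have hfH : Finite Spor.HN := Finite.of_surjective π hπ
  have hker : ∀ c, π c = 1 → c ^ 5 = 1 ∧ ∀ d, c * d = d * c := by
    intro c hc
    have h1 : QuotientGroup.mk' (Zx y) c = 1 := (map_eq_one_iff e e.injective).1 hc
    have h2 : c ∈ Zx y := (QuotientGroup.eq_one_iff c).1 h1
    obtain ⟨n, rfl⟩ := mem_zpowers_iff.1 h2
    constructor
    · apply Subtype.ext
      show (y ^ n) ^ 5 = 1
      rw [← zpow_natCast, ← zpow_mul, mul_comm, zpow_mul, zpow_natCast, ← hy, pow_orderOf_eq_one, one_zpow]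
    · intro d
      apply Subtype.ext
      show y ^ n * (d : ↥InstData.M.G) = d * y ^ n
      exact (Commute.zpow_left (show Commute y (d : ↥InstData.M.G) from (mem_cent.1 d.2).symm) n)
  -- elements of orders 2, 7, 11 of `HN`
  have hcτ := Cfsg.Agent.KFacts.HN.Classes.card_centralizer_τ
  set t₀ := Cfsg.Agent.HN.NormalH.ψ Cfsg.Agent.HN.H0Basic.τ with ht₀
  have ht₀2 : orderOf t₀ = 2 := by
    apply two_of_sq
    · rw [ht₀, ← map_mul, Cfsg.Agent.HN.H0Basic.τ_mul_τ, map_one]
    · intro h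
      exact Cfsg.Agent.HN.H0Basic.τ_ne_one (Cfsg.Agent.KFacts.HN.emb.inj (h.trans (map_one _).symm))
  have hf7 : Fact (Nat.Prime 7) := ⟨by norm_num⟩
  have hf11 : Fact (Nat.Prime 11) := ⟨by norm_num⟩
  obtain ⟨a, ha⟩ := exists_prime_orderOf_dvd_card' (G := centralizer ({t₀} : Set Spor.HN)) 7 (by rw [hcτ]; norm_num)
  obtain ⟨b, hb⟩ := exists_prime_orderOf_dvd_card' (G := centralizer ({t₀} : Set Spor.HN)) 11 (by rw [hcτ]; norm_num)
  have ha' : orderOf (a : Spor.HN) = 7 := by rw [orderOf_coe, ha]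
  have hb' : orderOf (b : Spor.HN) = 11 := by rw [orderOf_coe, hb]
  -- lifts
  have hk5 : ∀ c, π c = 1 → c ^ 5 = 1 := fun c hc => (hker c hc).1
  obtain ⟨t, htπ, ht2⟩ := exists_lift_pow π hπ (m := 5) (n := 2) (k := 1) (l := 2) hk5 (by norm_num)
    (a := t₀) (by rw [← ht₀2, pow_orderOf_eq_one])
  obtain ⟨x, hxπ, hx7⟩ := exists_lift_pow π hπ (m := 5) (n := 7) (k := 3) (l := 2) hk5 (by norm_num)
    (a := (a : Spor.HN)) (by rw [← ha', pow_orderOf_eq_one])
  obtain ⟨w, hwπ, hw11⟩ := exists_lift_pow π hπ (m := 5) (n := 11) (k := 9) (l := 4) hk5 (by norm_num)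
    (a := (b : Spor.HN)) (by rw [← hb', pow_orderOf_eq_one])
  have htO : orderOf t = 2 := by
    apply two_of_sq
    · rw [← pow_two, ht2]
    · rintro rfl
      rw [map_one] at htπ
      rw [← htπ, orderOf_one] at ht₀2
      norm_num at ht₀2
  have hxO : orderOf x = 7 := by
    refine orderOf_eq_prime hx7 ?_
    rintro rfl
    rw [map_one] at hxπ
    rw [← hxπ, orderOf_one] at ha'
    norm_num at ha'
  have hwO : orderOf w = 11 := by
    refine orderOf_eq_prime hw11 ?_
    rintro rfl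
    rw [map_one] at hwπ
    rw [← hwπ, orderOf_one] at hb'
    norm_num at hb'
  have htx : t * x = x * t := comm_of_comm π (m := 5) (n := 7) (by norm_num) hker hx7 (by
    rw [htπ, hxπ]
    exact (mem_cent.1 a.2).symm)
  have htw : t * w = w * t := comm_of_comm π (m := 5) (n := 11) (by norm_num) hker hw11 (by
    rw [htπ, hwπ]
    exact (mem_cent.1 b.2).symm)
  -- `t` is not conjugate to `z`
  have hnz : ∀ g : ↥InstData.M.G, g * KDone.K.z * g⁻¹ ≠ (t : ↥InstData.M.G) := by
    intro g hg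
    have hz : KDone.K.z = g⁻¹ * (t : ↥InstData.M.G) * g⁻¹⁻¹ := by rw [← hg]; group
    have h1 : ∀ c : centralizer ({y} : Set ↥InstData.M.G), t * c = c * t →
        (g⁻¹ * (c : ↥InstData.M.G) * g⁻¹⁻¹) * KDone.K.z = KDone.K.z * (g⁻¹ * (c : ↥InstData.M.G) * g⁻¹⁻¹) := by
      intro c hc
      have h2 : (t : ↥InstData.M.G) * c = c * t := congrArg Subtype.val hc
      have h3 := comm_cj g⁻¹ h2
      rw [← hz] at h3
      exact h3.symm
    have hyY : y ∈ centralizer ({y} : Set ↥InstData.M.G) := mem_cent.2 rfl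
    let yY : centralizer ({y} : Set ↥InstData.M.G) := ⟨y, hyY⟩
    have hty : t * yY = yY * t := Subtype.ext (mem_cent.1 t.2)
    let y' : centralizer ({KDone.K.z} : Set ↥InstData.M.G) := ⟨g⁻¹ * y * g⁻¹⁻¹, mem_cent.2 (h1 yY hty)⟩
    let w' : centralizer ({KDone.K.z} : Set ↥InstData.M.G) := ⟨g⁻¹ * (w : ↥InstData.M.G) * g⁻¹⁻¹, mem_cent.2 (h1 w htw)⟩
    have hy' : orderOf y' = 5 := by rw [← orderOf_coe, ← hy]; exact orderOf_cj _ _
    have hw' : orderOf w' = 11 := by rw [← orderOf_coe, ← hwO, ← orderOf_coe w]; exact orderOf_cj _ _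
    have hch := KChart.chart KDone.lft MFive.Row.hc
    have h5 := MFive.orderOf_pi hch (by norm_num) (by decide) hy'
    have h11 := MFive.orderOf_pi hch (by norm_num) (by decide) hw'
    refine co1_not_comm (p := 5) (q := 11) (Or.inl rfl) (Or.inr (Or.inr (Or.inl rfl))) (by norm_num) (by norm_num) h5 h11 ?_
    rw [← map_mul, ← map_mul]
    congr 1
    apply Subtype.ext
    exact comm_cj g⁻¹ (mem_cent.1 w.2).symm
  have hcx := isoHe_of_not_conj (x := (x : ↥InstData.M.G)) (t := (t : ↥InstData.M.G)) (by rw [orderOf_coe, hxO])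
    (by rw [orderOf_coe, htO]) (congrArg Subtype.val htx.symm) hnz
  refine ⟨a, ha', ?_⟩
  rw [← hxπ]
  refine (card_cent_dvd π hπ (m := 5) (n := 7) (by norm_num) hker hx7).trans ?_
  rw [← hcx]
  refine Subgroup.card_dvd_of_injective
    (((centralizer ({y} : Set ↥InstData.M.G)).subtype.comp (centralizer ({x} :
      Set (centralizer ({y} : Set ↥InstData.M.G)))).subtype).codRestrict _ ?_) ?_
  · intro c
    exact mem_cent.2 (congrArg Subtype.val (mem_cent.1 c.2))
  · intro c d hab
    have h0 := congrArg (fun w : centralizer ({(x : ↥InstData.M.G)} : Set ↥InstData.M.G) => (w : ↥InstData.M.G)) hab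
    exact Subtype.ext (Subtype.ext h0)

theorem card_hn : Nat.card Spor.HN = 273030912000000 := Cfsg.Agent.S1701.result.2

/-- 7 is adjacent only to primes dividing `7 |He|` -/
theorem hn_not_adj_seven {p : ℕ} (hp : p.Prime) (hpd : ¬ p ∣ 4030387200 * 7) : ¬ Adj Spor.HN 7 p := by
  have hfin : Finite Spor.HN := Nat.finite_of_card_ne_zero (by rw [card_hn]; norm_num)
  intro hadj
  obtain ⟨a, ha, hca⟩ := exists_hn_seven
  obtain ⟨v, hv, hav⟩ := Eng.exists_comm_of_adj (by norm_num : (7 : ℕ).Prime) hp (by rw [card_hn]; norm_num) ha hadj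
  apply hpd
  refine dvd_trans ?_ hca
  have h1 : orderOf (⟨v, mem_cent.2 hav.symm⟩ : centralizer ({a} : Set Spor.HN)) = p := by
    rw [← hv, ← orderOf_coe]
  exact h1 ▸ orderOf_dvd_natCard _

theorem na_hn_19 : NA 19 Spor.HN := by
  have hfin : Finite Spor.HN := Nat.finite_of_card_ne_zero (by rw [card_hn]; norm_num)
  refine NA.of_card fun t ht => ?_
  rcases SigZeroHN.card_centralizer_cases ht with ⟨-, h⟩ | ⟨-, h⟩ <;> rw [h] <;> norm_num

/-- 11 and 19 -/
theorem hn_11_19 (hB : ∀ v : Spor.HN, orderOf v = 11 → ¬ 4 ∣ Nat.card (centralizer ({v} : Set Spor.HN))) :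
    ¬ Adj Spor.HN 11 19 := by
  have hfin : Finite Spor.HN := Nat.finite_of_card_ne_zero (by rw [card_hn]; norm_num)
  have hsim : IsSimpleGroup Spor.HN := Cfsg.Agent.S1701.result.1
  have hN := card_hn
  intro hadj
  obtain ⟨v, u, hv, hu, huv⟩ := hadj.exists_commute (by norm_num) (by norm_num)
  have hsol : Group.IsSolvable (Eng.Cm v) := H495.NotFour.isSolvable_of_not_four_dvd (hB v hv)
  have hp : ∀ x ∈ [(2, 14), (19, 1), (3, 6), (5, 6), (7, 1), (11, 1)], Nat.Prime x.1 := by simp; norm_num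
  have hL : Nat.card Spor.HN = Eng.prodL [(2, 14), (19, 1), (3, 6), (5, 6), (7, 1), (11, 1)] := by
    rw [hN]
    decide +kernel
  have hgood := Eng.good_of_ok hp (by decide) (s := 19) (by decide +kernel) hL
  have h1 : Eng.Nm v ≤ Eng.Nm u := Eng.nm_le_nm_of_solvable (by norm_num) (by rw [hN]; norm_num) hsol hu huv
    (fun p i hp' hps hi hd => by
      by_cases hp2 : p = 2
      · subst hp2
        have hi1 : i = 1 := by
          by_contra hne
          apply hB v hv
          exact (pow_dvd_pow 2 (show 2 ≤ i by omega)).trans hd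
        rw [hi1]
        norm_num
      · exact hgood p i hp' hps hp2 hi (hd.trans (card_subgroup_dvd_card _)))
  have h2 : (Eng.Nm u).index % 11 = 1 := Eng.index_mod_of_le (by norm_num) (by rw [hN]; norm_num) hv h1
  obtain ⟨c, k, hc, hcard, hodd, hk, hk1, hi, hadj'⟩ := Eng.single (by norm_num : (19 : ℕ).Prime)
    (by rw [hN]; norm_num) (by rw [hN]; norm_num) na_hn_19 hu
  have h3 : c * k * (Eng.Nm u).index = 14370048000000 := by
    have h4 := (Eng.Nm u).card_mul_index
    rw [hcard, hN] at h4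
    apply Nat.eq_of_mul_eq_mul_left (show 0 < 19 by norm_num)
    rw [← mul_assoc, ← mul_assoc, h4]
  have h19 : (Eng.Nm u).index % 209 = 1 := by omega
  have h11 : 11 ∣ c := by
    have h5 : 11 ∣ Nat.card (Eng.Cm u) := by
      have h0 : orderOf (⟨v, mem_cent.2 huv⟩ : Eng.Cm u) = 11 := by rw [← hv, ← orderOf_coe]
      exact h0 ▸ orderOf_dvd_natCard _
    rw [hc] at h5
    omega
  have h5 := Eng.okPair_spec (L := [(3, 6), (5, 6), (7, 1), (11, 1)]) (a := 14)
    (ks := [2, 3, 6, 9, 18]) (m := 209) (bad := fun c => c % 11 != 0 || c % 7 == 0) (by simp; norm_num)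
    (by decide +kernel) (by norm_num) (by decide +kernel) hodd (Eng.okKs_spec (s := 19) (by decide) (by norm_num) hk hk1)
    h3 h19
  simp only [Bool.or_eq_true, bne_iff_ne, ne_eq, beq_iff_eq] at h5
  rcases h5 with h5 | h5
  · exact h5 (Nat.mod_eq_zero_of_dvd h11)
  · exact hn_not_adj_seven (by norm_num) (by norm_num) (hadj' 7 (by norm_num) (Nat.dvd_of_mod_eq_zero h5))

end Cfsg.Agent.H149.Sp
end

-- part: H149/Sp/HNEleven
section
set_option linter.all false
open scoped Cfsg.Agent.FastGrp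

/-!
# `HN`: the centralizer of an element of order 11 is not divisible by 4
-/

set_option autoImplicit false
set_option maxRecDepth 100000

open Subgroup

namespace Cfsg.Agent.H149.Sp

open Cfsg Cfsg.Agent.H393.Iso Cfsg.Agent.H163.PG
open Cfsg.Agent.HN.Pres Cfsg.Agent.HN.H0Basic Cfsg.Agent.HN.Syl Cfsg.Agent.HN.Iota
open Cfsg.Agent.HN.XWords Cfsg.Agent.KFacts.HN Cfsg.Agent.HN.Classes Cfsg.Agent.SigZeroHN
open Cfsg.Agent.HN.HS100 (K gx_mem)
open Cfsg.Agent.HN.Twist (a_mem_K)

/-- an element of `H0` commuting with `x` gives a divisor of the order of the centralizer of a conjugate -/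
theorem dvd_card_of_conj {X : Type*} [Group X] {s x v : X} (h : IsConj s x) (hvx : v * x = x * v) :
    orderOf v ∣ Nat.card (centralizer ({s} : Set X)) := by
  rw [card_centralizer_conj h]
  have h1 : orderOf (⟨v, mem_cent.2 hvx⟩ : centralizer ({x} : Set X)) = orderOf v := by rw [← orderOf_coe]
  exact h1 ▸ orderOf_dvd_natCard _

theorem not_eleven_z : ¬ 11 ∣ Nat.card (centralizer ({gz} : Set H0)) := by
  intro h
  have h1 := Cfsg.Agent.HN.CentCards.card_centralizer_z
  have h2 : iota.range ≤ centralizer ({gz} : Set H0) := by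
    rintro _ ⟨s, rfl⟩
    rw [mem_centralizer_singleton_iff]
    exact (z_iota s).symm
  have h3 : Nat.card iota.range = 20160 := by
    rw [← Nat.card_congr (MonoidHom.ofInjective iota_inj).toEquiv, nat_card_alternatingGroup, Nat.card_eq_fintype_card,
      Fintype.card_fin]
    rfl
  have h4 := dvd_of_le h2
  rw [h3] at h4
  obtain ⟨k, hk⟩ := h4
  rw [hk] at h h1
  have h5 : k ≤ 4 := by omega
  have h6 : 0 < k := by
    rcases Nat.eq_zero_or_pos k with rfl | h7
    · have : Finite H0 := Cfsg.Agent.HN.H0Basic.finite_H0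
      have h8 : 0 < Nat.card (centralizer ({gz} : Set H0)) := Nat.card_pos
      omega
    · exact h7
  interval_cases k <;> omega

/-- in `2.HS` -/
theorem k_eleven {v x : H0} (hv : orderOf v = 11) (hvx : v * x = x * v) (hx : x ^ 2 = 1 ∨ x ^ 2 = τ) (hxK : x ∈ K) :
    x = 1 ∨ x = τ := by
  have hvK : v ∈ K := by
    have h1 : v = (v ^ 2) ^ 6 := by
      rw [← pow_mul, show 2 * 6 = 11 + 1 by norm_num, pow_succ, ← hv, pow_orderOf_eq_one, one_mul]
    rw [h1]
    exact K.pow_mem (sq_mem_K v) 6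
  obtain ⟨hcen, ⟨e⟩, -⟩ := Cfsg.Agent.HN.CoverUnique.isCover_K
  have hτc : (⟨τ, τ_mem_K⟩ : K) ∈ center K := by
    rw [mem_center_iff]
    intro g
    exact Subtype.ext (emb.comm g)
  have hmem : ∀ g : K, g ∈ center K → (g : H0) = 1 ∨ (g : H0) = τ := by
    intro g hg
    rw [Cfsg.Agent.HN.DoubleCover.center_K Cfsg.Agent.HN.H0Basic.card_H0 Cfsg.Agent.HN.CoverUnique.gxne,
      MonoidHom.mem_ker] at hg
    exact φ_eq_one_iff.1 (congrArg Subtype.val hg)
  let f : K →* Spor.HS := e.toMonoidHom.comp (QuotientGroup.mk' (center K))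
  have hf1 : ∀ g : K, f g = 1 ↔ g ∈ center K := by
    intro g
    show e (QuotientGroup.mk' (center K) g) = 1 ↔ _
    rw [map_eq_one_iff e e.injective]
    exact QuotientGroup.eq_one_iff g
  have hfin : Finite H0 := Cfsg.Agent.HN.H0Basic.finite_H0
  have hfHS : Finite Spor.HS := Finite.of_surjective f (e.surjective.comp (QuotientGroup.mk'_surjective _))
  by_contra hcon
  have n11 : NA 11 Spor.HS := na_hs ⟨MulEquiv.refl _⟩
  have hf11 : Fact (Nat.Prime 11) := ⟨by norm_num⟩
  refine n11 (f ⟨v, hvK⟩) (f ⟨x, hxK⟩) ?_ ?_ ?_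
  · refine orderOf_eq_prime ?_ ?_
    · rw [← map_pow]
      have h1 : (⟨v, hvK⟩ : K) ^ 11 = 1 := Subtype.ext (by rw [← hv]; exact pow_orderOf_eq_one v)
      rw [h1, map_one]
    · intro h
      have h2 : v ^ 2 = 1 := by
        rcases hmem _ ((hf1 _).1 h) with h3 | h3
        · have h4 : v = 1 := h3
          rw [h4, one_pow]
        · have h4 : v = τ := h3
          rw [h4, pow_two]
          exact emb.sq
      have h5 := orderOf_dvd_of_pow_eq_one h2
      rw [hv] at h5
      norm_num at h5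
  · apply two_of_sq
    · rw [← map_mul, hf1]
      rcases hx with h | h
      · have h1 : (⟨x, hxK⟩ : K) * ⟨x, hxK⟩ = 1 := Subtype.ext (by
          show x * x = 1
          rw [← pow_two, h])
        rw [h1]
        exact (center K).one_mem
      · have h1 : (⟨x, hxK⟩ : K) * ⟨x, hxK⟩ = ⟨τ, τ_mem_K⟩ := Subtype.ext (by
          show x * x = τ
          rw [← h, pow_two])
        rw [h1]
        exact hτc
    · intro h
      exact hcon (hmem _ ((hf1 _).1 h))
  · rw [← map_mul, ← map_mul]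
    congr 1
    exact Subtype.ext hvx

/-- in `H0 = 2.HS.2` -/
theorem h0_eleven {v x : H0} (hv : orderOf v = 11) (hvx : v * x = x * v) (hx : x ^ 2 = 1 ∨ x ^ 2 = τ) : x = 1 ∨ x = τ := by
  rcases sq_cases hx with h | h | h | h | h | h | h
  · exact Or.inl h
  · exact Or.inr h
  · exact k_eleven hv hvx hx ((mem_K_of_isConj h).1 a_mem_K)
  · exact k_eleven hv hvx hx ((mem_K_of_isConj h).1 (K.mul_mem a_mem_K τ_mem_K))
  · exact k_eleven hv hvx hx ((mem_K_of_isConj h).1 gx_mem)
  · exfalso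
    have h1 := dvd_card_of_conj h hvx
    rw [hv] at h1
    exact not_eleven_z h1
  · exfalso
    have : IsSimpleGroup Cfsg.Spor.HN := Cfsg.Agent.HN.XWords.simple_HN
    have h1 : IsConj (Cfsg.Agent.HN.NormalH.ψ x) W0 := by
      refine (Cfsg.Agent.HN.NormalH.ψ.map_isConj h.symm).trans ?_
      rw [W0_eq]
      exact Cfsg.Agent.HN.InvHN.isConj_d
    have h2 := dvd_card_of_conj h1.symm (v := Cfsg.Agent.HN.NormalH.ψ v) (by rw [← map_mul, hvx, map_mul])
    rw [orderOf_injective _ emb.inj, hv, PCard.card_centralizer] at h2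
    norm_num at h2

/-- **The centralizer of an element of order 11** -/
theorem hn_cent_eleven (v : Spor.HN) (hv : orderOf v = 11) : ¬ 4 ∣ Nat.card (centralizer ({v} : Set Spor.HN)) := by
  have hfin : Finite Spor.HN := Nat.finite_of_card_ne_zero (by rw [card_hn]; norm_num)
  intro h4
  have hf2 : Fact (Nat.Prime 2) := ⟨Nat.prime_two⟩
  obtain ⟨t, ht⟩ := exists_prime_orderOf_dvd_card' (G := centralizer ({v} : Set Spor.HN)) 2
    (dvd_trans (by norm_num) h4)
  have ht' : orderOf (t : Spor.HN) = 2 := by rw [orderOf_coe, ht]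
  have htv : (t : Spor.HN) * v = v * t := mem_cent.1 t.2
  have hconj : IsConj (t : Spor.HN) (Cfsg.Agent.HN.NormalH.ψ τ) := by
    rcases card_centralizer_cases ht' with ⟨h, -⟩ | ⟨-, h⟩
    · exact h
    · exfalso
      have h1 : orderOf (⟨v, mem_cent.2 htv.symm⟩ : centralizer ({(t : Spor.HN)} : Set Spor.HN)) = 11 := by
        rw [← hv, ← orderOf_coe]
      have h2 := orderOf_dvd_natCard (⟨v, mem_cent.2 htv.symm⟩ : centralizer ({(t : Spor.HN)} : Set Spor.HN))
      rw [h1, h] at h2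
      norm_num at h2
  obtain ⟨c, hc⟩ := isConj_iff.1 hconj
  have key : ∀ g : Spor.HN, g * t = t * g → ∃ k : H0, Cfsg.Agent.HN.NormalH.ψ k = c * g * c⁻¹ := by
    intro g hg
    refine emb.cent _ ?_
    rw [← hc]
    exact comm_cj c hg
  obtain ⟨v', hv'⟩ := key v htv.symm
  have hv'O : orderOf v' = 11 := by
    rw [← orderOf_injective _ emb.inj, hv', orderOf_cj, hv]
  refine Eng.not_four_dvd ht ?_ h4
  rintro z hzt ⟨n, hn⟩
  have hz : ∀ n : ℕ, ∀ z : Spor.HN, z * v = v * z → z * t = t * z → z ^ 2 ^ n = 1 → z = 1 ∨ z = t := by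
    intro n
    induction n with
    | zero =>
      intro z _ _ h
      left
      simpa using h
    | succ n ih =>
      intro z hzv hzt h
      have h2 : z ^ 2 = 1 ∨ z ^ 2 = t := by
        refine ih (z ^ 2) ?_ ?_ ?_
        · exact (Commute.pow_left (show Commute z v from hzv) 2)
        · exact (Commute.pow_left (show Commute z t from hzt) 2)
        · rw [← pow_mul, ← pow_succ']
          exact h
      obtain ⟨k, hk⟩ := key z hzt
      have h3 : k ^ 2 = 1 ∨ k ^ 2 = τ := by
        rcases h2 with h2 | h2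
        · left
          apply emb.inj
          rw [map_pow, map_one, hk, conj_pow, h2, mul_one, mul_inv_cancel]
        · right
          apply emb.inj
          rw [map_pow, hk, conj_pow, h2, hc]
      have h4 : v' * k = k * v' := by
        apply emb.inj
        rw [map_mul, map_mul, hk, hv']
        exact comm_cj c hzv.symm
      rcases h0_eleven hv'O h4 h3 with h5 | h5
      · left
        rw [h5, map_one] at hk
        calc z = c⁻¹ * (c * z * c⁻¹) * c := by group
          _ = 1 := by rw [← hk]; group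
      · right
        rw [h5, ← hc] at hk
        exact (mul_left_cancel (mul_right_cancel hk)).symm
  rcases hz n z (mem_cent.1 z.2) (congrArg Subtype.val hzt) (congrArg Subtype.val hn) with h | h
  · exact Or.inl (Subtype.ext h)
  · exact Or.inr (Subtype.ext h)

theorem has3Out_hn {G : Type*} [Group G] [Finite G] [IsSimpleGroup G] (h : Spor.IsoHN G) (hs : IsSporadicGroup G) :
    Has3Out G := by
  have hN := NotCT.Orders.hn h
  have h1 : ∀ p q : ℕ, ¬ Adj Spor.HN p q → ¬ Adj G p q := fun p q hpq hadj => h.elim fun e => hpq ((adj_congr e).1 hadj)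
  exact has3Out_of_odd hs (p := 7) (q := 11) (r := 19) (by norm_num) (by norm_num) (by norm_num) (by norm_num)
    (by norm_num) (by norm_num) (by rw [hN]; norm_num) (h1 _ _ (hn_not_adj_seven (by norm_num) (by norm_num)))
    (h1 _ _ (hn_11_19 hn_cent_eleven)) (h1 _ _ (hn_not_adj_seven (by norm_num) (by norm_num)))

end Cfsg.Agent.H149.Sp
end
end
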