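import Mathlib
import Cfsg.Prelude.Def_Classification2
import Cfsg.Prelude.Def_KGroupFacts
import Cfsg.Agent.S2060
import Cfsg.Agent.S2061
import Cfsg.Agent.S2062
import Cfsg.Agent.S2063
import Cfsg.Agent.S2064
import Cfsg.Agent.S2065
import Cfsg.Agent.S2066
import Cfsg.Agent.S2067
import Cfsg.Agent.S2068
import Cfsg.Agent.S2069
import Cfsg.Agent.S2070
import Cfsg.Agent.S2071
import Cfsg.Agent.S2072
import Cfsg.Agent.S2073
import Cfsg.Agent.S2074
import Cfsg.Agent.S2075
import Cfsg.Agent.S2076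
import Cfsg.Agent.S2077
import Cfsg.Agent.S2078
import Cfsg.Agent.S2079
import Cfsg.Agent.S2080
import Cfsg.Agent.S2081
import Cfsg.Agent.S2082
import Cfsg.Agent.S2083
import Cfsg.Agent.S2084
import Cfsg.Agent.S2085
import Cfsg.Agent.H163.PG.Few_m3
import Cfsg.Agent.H547.SelfCent.Base
import Cfsg.Agent.Solvable.Hall
import Cfsg.Agent.S0205
import Cfsg.Agent.H495.NotFour
import Cfsg.Agent.FastGrp
import Cfsg.Agent.Prune
set_option linter.all false

section
prune_inst 0x7f00000000000000000000000000000000000000000000000000000000000000000000000000000000000000000000000000000000000000000000000000000000000000000000000000000000000000003fffffffffffffffffffffffffffbeffbdffffffff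

-- part: H498/SporOut
section
set_option linter.all false
open scoped Cfsg.Agent.FastGrp

/-!
# The outer automorphism groups of the sporadic groups have order at most two
-/

set_option autoImplicit false

namespace Cfsg.Agent.H498.SporOut

open Cfsg

theorem index_congr {X Y : Type*} [Group X] [Group Y] (e : X ≃* Y) :
    (MulAut.conj : X →* MulAut X).range.index = (MulAut.conj : Y →* MulAut Y).range.index := by
  have h1 : (MulAut.conj : Y →* MulAut Y).range =
      (MulAut.conj : X →* MulAut X).range.map (MulAut.congr e).toMonoidHom := by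
    ext f
    constructor
    · rintro ⟨y, rfl⟩
      refine ⟨MulAut.conj (e.symm y), ⟨_, rfl⟩, ?_⟩
      ext z
      show e (e.symm y * e.symm z * (e.symm y)⁻¹) = y * z * y⁻¹
      simp
    · rintro ⟨_, ⟨x, rfl⟩, rfl⟩
      refine ⟨e x, ?_⟩
      ext z
      show e x * z * (e x)⁻¹ = e (x * e.symm z * x⁻¹)
      simp
  rw [h1]
  exact (Subgroup.index_map_of_bijective (f := (MulAut.congr e).toMonoidHom) (MulAut.congr e).bijective _).symm

theorem le_two_of {X Y : Type*} [Group X] [Group Y] (e : X ≃* Y) {n : ℕ} (hn : n ≤ 2)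
    (h : Nat.card (Out Y) = n) : (MulAut.conj : X →* MulAut X).range.index ≤ 2 := by
  rw [index_congr e]
  exact (le_of_eq h).trans hn

/-- **`|Out| ≤ 2` for the sporadic groups.** -/
theorem index_le_two {S : Type*} [Group S] (h : IsSporadicGroup S) :
    (MulAut.conj : S →* MulAut S).range.index ≤ 2 := by
  rcases h with h | h | h | h | h | h | h | h | h | h | h | h | h | h | h | h | h | h | h | h | h | h | h | h | h | h
  · obtain ⟨e⟩ := h
    exact le_two_of e (by norm_num) S2060.result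
  · obtain ⟨e⟩ := h
    exact le_two_of e (by norm_num) S2061.result
  · obtain ⟨e⟩ := h
    exact le_two_of e (by norm_num) S2062.result
  · obtain ⟨e⟩ := h
    exact le_two_of e (by norm_num) S2063.result
  · obtain ⟨e⟩ := h
    exact le_two_of e (by norm_num) S2064.result
  · obtain ⟨e⟩ := h
    exact le_two_of e (by norm_num) S2065.result
  · obtain ⟨e⟩ := h
    exact le_two_of e (by norm_num) S2066.result
  · obtain ⟨F, i1, i2, ω, hF, hω, ⟨e⟩⟩ := h
    exact le_two_of e (by norm_num) (S2067.result hF ω hω)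
  · obtain ⟨e⟩ := h
    exact le_two_of e (by norm_num) S2068.result
  · obtain ⟨e⟩ := h
    exact le_two_of e (by norm_num) S2069.result
  · obtain ⟨e⟩ := h
    exact le_two_of e (by norm_num) S2070.result
  · obtain ⟨e⟩ := h
    exact le_two_of e (by norm_num) S2071.result
  · obtain ⟨e⟩ := h
    exact le_two_of e (by norm_num) S2073.result
  · obtain ⟨e⟩ := h
    exact le_two_of e (by norm_num) S2072.result
  · obtain ⟨e⟩ := h
    exact le_two_of e (by norm_num) S2074.result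
  · obtain ⟨e⟩ := h
    exact le_two_of e (by norm_num) S2075.result
  · obtain ⟨e⟩ := h
    exact le_two_of e (by norm_num) S2077.result
  · obtain ⟨e⟩ := h
    exact le_two_of e (by norm_num) S2078.result
  · obtain ⟨e⟩ := h
    exact le_two_of e (by norm_num) S2076.result
  · obtain ⟨e⟩ := h
    exact le_two_of e (by norm_num) S2079.result
  · obtain ⟨e⟩ := h
    exact le_two_of e (by norm_num) S2080.result
  · obtain ⟨e⟩ := h
    exact le_two_of e (by norm_num) S2081.result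
  · obtain ⟨e⟩ := h
    exact le_two_of e (by norm_num) S2082.result
  · obtain ⟨e⟩ := h
    exact le_two_of e (by norm_num) S2083.result
  · obtain ⟨e⟩ := h
    exact le_two_of e (by norm_num) S2084.result
  · obtain ⟨e⟩ := h
    exact le_two_of e (by norm_num) S2085.result

end Cfsg.Agent.H498.SporOut
end

-- part: H149/Sp/Base
section
set_option linter.all false
open scoped Cfsg.Agent.FastGrp

/-!
# Three pairwise non-adjacent primes: the interface for the sporadic groups (S2529)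
-/

set_option autoImplicit false

namespace Cfsg.Agent.H149.Sp

open Cfsg Cfsg.Agent.H163.PG

theorem adj_of_surjective {A B : Type*} [Group A] [Group B] [Finite A] (f : A →* B) (hf : Function.Surjective f) {p q : ℕ}
    (h : Adj B p q) : Adj A p q := by
  obtain ⟨g, hg⟩ := h
  obtain ⟨a, rfl⟩ := hf g
  exact adj_of_dvd (orderOf_pos a).ne' (by rw [← hg]; exact orderOf_map_dvd f a)

theorem not_adj_of_not_comm {G : Type*} [Group G] {p q : ℕ} (hp : p.Prime) (hq : q.Prime)
    (h : ∀ x y : G, orderOf x = p → orderOf y = q → x * y ≠ y * x) : ¬ Adj G p q := by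
  intro hadj
  obtain ⟨x, y, hx, hy, hxy⟩ := hadj.exists_commute hp hq
  exact h x y hx hy hxy

theorem card_out_dvd_two {S : Type*} [Group S] [Finite S] (h : IsSporadicGroup S) : Nat.card (Cfsg.Out S) ∣ 2 := by
  have h1 := H498.SporOut.index_le_two h
  have h2 : (MulAut.conj : S →* MulAut S).range.index = Nat.card (Cfsg.Out S) := rfl
  rw [h2] at h1
  have h3 : 0 < Nat.card (Cfsg.Out S) := Nat.card_pos
  have h4 : Nat.card (Cfsg.Out S) = 1 ∨ Nat.card (Cfsg.Out S) = 2 := by omega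
  rcases h4 with h4 | h4 <;> rw [h4]
  exact one_dvd 2

/-- **Three pairwise non-adjacent odd primes** in a sporadic group -/
theorem has3Out_of_odd {S : Type*} [Group S] [Finite S] (h : IsSporadicGroup S) {p q r : ℕ} (hp : p.Prime) (hq : q.Prime)
    (hr : r.Prime) (h2 : 2 < p) (hpq : p < q) (hqr : q < r) (hd : p * (q * r) ∣ Nat.card S)
    (n1 : ¬ Adj S p q) (n2 : ¬ Adj S q r) (n3 : ¬ Adj S p r) : Has3Out S := by
  have ho : ∀ l : ℕ, 2 < l → ¬ l ∣ Nat.card (Cfsg.Out S) := fun l hl hd =>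
    absurd (Nat.le_of_dvd (by norm_num) (hd.trans (card_out_dvd_two h))) (by omega)
  exact ⟨p, q, r, hp, hq, hr, hpq.ne, hqr.ne, (hpq.trans hqr).ne, (dvd_mul_right _ _).trans hd,
    ((dvd_mul_right _ _).mul_left _).trans hd, ((dvd_mul_left _ _).mul_left _).trans hd, n1, n2, n3,
    ho p h2, ho q (by omega), ho r (by omega)⟩

/-- **Three pairwise non-adjacent primes** in a group without outer automorphisms -/
theorem has3Out_of_one {S : Type*} [Group S] [Finite S] (h : Nat.card (Cfsg.Out S) = 1) {p q r : ℕ} (hp : p.Prime)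
    (hq : q.Prime) (hr : r.Prime) (hpq : p < q) (hqr : q < r) (hd : p * (q * r) ∣ Nat.card S)
    (n1 : ¬ Adj S p q) (n2 : ¬ Adj S q r) (n3 : ¬ Adj S p r) : Has3Out S := by
  have ho : ∀ l : ℕ, l.Prime → ¬ l ∣ Nat.card (Cfsg.Out S) := fun l hl hd => by
    rw [h] at hd
    exact hl.one_lt.ne' (Nat.dvd_one.1 hd)
  exact ⟨p, q, r, hp, hq, hr, hpq.ne, hqr.ne, (hpq.trans hqr).ne, (dvd_mul_right _ _).trans hd,
    ((dvd_mul_right _ _).mul_left _).trans hd, ((dvd_mul_left _ _).mul_left _).trans hd, n1, n2, n3,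
    ho p hp, ho q hq, ho r hr⟩

end Cfsg.Agent.H149.Sp
end

-- part: H149/Sp/Engine
section
set_option linter.all false
open scoped Cfsg.Agent.FastGrp

/-!
# Sylow subgroups of prime order: Sylow's congruences, Burnside's transfer, and pairs of primes not adjacent to 2

Elementary arguments which show that two primes `r`, `s` are not adjacent in the prime graph.
-/

set_option autoImplicit false

namespace Cfsg.Agent.H149.Sp.Eng

open Subgroup Cfsg.Agent.H163.PG Cfsg.Agent.H393.Iso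

variable {G : Type*} [Group G]

/-- the normalizer of `⟨v⟩` -/
abbrev Nm (v : G) : Subgroup G := normalizer ((zpowers v : Subgroup G) : Set G)

/-- the centralizer of `v` -/
abbrev Cm (v : G) : Subgroup G := centralizer ({v} : Set G)

theorem mem_nm {v g : G} : g ∈ Nm v ↔ ∀ h, h ∈ zpowers v ↔ g * h * g⁻¹ ∈ zpowers v := mem_normalizer_iff

theorem cm_le_nm (v : G) : Cm v ≤ Nm v := by
  intro g hg
  have h1 : Commute g v := mem_cent.1 hg
  rw [mem_nm]
  intro h
  constructor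
  · intro hh
    obtain ⟨n, rfl⟩ := mem_zpowers_iff.1 hh
    have h2 : g * v ^ n * g⁻¹ = v ^ n := by rw [(h1.zpow_right n).eq, mul_inv_cancel_right]
    rw [h2]
    exact ⟨n, rfl⟩
  · intro hh
    obtain ⟨n, hn⟩ := mem_zpowers_iff.1 hh
    have h2 : h = g⁻¹ * (v ^ n) * g := by rw [hn]; group
    have h3 : g⁻¹ * v ^ n * g = v ^ n := by rw [mul_assoc, ← (h1.zpow_right n).eq, inv_mul_cancel_left]
    rw [h2, h3]
    exact ⟨n, rfl⟩

theorem cent_zpowers (v : G) : centralizer ((zpowers v : Subgroup G) : Set G) = Cm v := by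
  ext g
  rw [mem_centralizer_iff, mem_cent]
  constructor
  · intro h
    exact (h v (mem_zpowers v)).symm
  · intro h x hx
    obtain ⟨n, rfl⟩ := mem_zpowers_iff.1 hx
    exact (Commute.zpow_right (show Commute g v from h) n).symm

theorem mem_nm_of [Finite G] {v g : G} (h : g * v * g⁻¹ ∈ zpowers v) : g ∈ Nm v := by
  have h1 : (zpowers v).map (MulAut.conj g).toMonoidHom = zpowers v := by
    apply eq_of_le_of_card_ge
    · rw [MonoidHom.map_zpowers, zpowers_le]
      exact h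
    · rw [card_map_of_injective (MulAut.conj g).injective]
  rw [mem_nm]
  intro x
  constructor
  · intro hx
    rw [← h1]
    exact ⟨x, hx, rfl⟩
  · intro hx
    rw [← h1] at hx
    obtain ⟨y, hy, hxy⟩ := hx
    have : y = x := (MulAut.conj g).injective hxy
    rwa [← this]

section

variable [Finite G] {s : ℕ}

theorem exists_sylow (hs : s.Prime) (h2 : ¬ s ^ 2 ∣ Nat.card G) {v : G} (hv : orderOf v = s) :
    ∃ P : Sylow s G, (P : Subgroup G) = zpowers v := by
  have hf : Fact s.Prime := ⟨hs⟩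
  have hZ : IsPGroup s (zpowers v) := by
    rw [IsPGroup.iff_card]
    exact ⟨1, by rw [Nat.card_zpowers, hv, pow_one]⟩
  obtain ⟨P, hP⟩ := hZ.exists_le_sylow
  refine ⟨P, ?_⟩
  obtain ⟨k, hk⟩ := IsPGroup.iff_card.1 P.2
  have h3 : k < 2 := by
    by_contra hc
    push Not at hc
    exact h2 ((pow_dvd_pow s hc).trans (hk ▸ card_subgroup_dvd_card _))
  symm
  apply eq_of_le_of_card_ge hP
  rw [hk, Nat.card_zpowers, hv]
  calc s ^ k ≤ s ^ 1 := Nat.pow_le_pow_right hs.pos (by omega)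
    _ = s := pow_one s

theorem index_nm (hs : s.Prime) (h2 : ¬ s ^ 2 ∣ Nat.card G) {v : G} (hv : orderOf v = s) :
    (Nm v).index = Nat.card (Sylow s G) := by
  have hf : Fact s.Prime := ⟨hs⟩
  obtain ⟨P, hP⟩ := exists_sylow hs h2 hv
  rw [Sylow.card_eq_index_normalizer P, Nm, ← hP]
  rfl

theorem index_nm_mod (hs : s.Prime) (h2 : ¬ s ^ 2 ∣ Nat.card G) {v : G} (hv : orderOf v = s) :
    (Nm v).index % s = 1 := by
  have hf : Fact s.Prime := ⟨hs⟩
  rw [index_nm hs h2 hv]
  have h := card_sylow_modEq_one s G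
  rw [h, Nat.one_mod_eq_one.2 hs.one_lt.ne']

end

/-- a solvable group in which the Sylow `s`-subgroup (of order `s`) must be normal -/
theorem card_sylow_eq_one {T : Type*} [Group T] [Finite T] [hsol : Group.IsSolvable T] {s : ℕ} (hs : s.Prime)
    (hd : s ∣ Nat.card T) (h2 : ¬ s ^ 2 ∣ Nat.card T)
    (hg : ∀ p i : ℕ, p.Prime → p ≠ s → 0 < i → p ^ i ∣ Nat.card T → ¬ s ∣ p ^ i - 1) : Nat.card (Sylow s T) = 1 := by
  have hf : Fact s.Prime := ⟨hs⟩
  by_contra hn
  obtain ⟨p, hp, hpn⟩ := Nat.exists_prime_and_dvd hn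
  obtain ⟨v, hv⟩ := exists_prime_orderOf_dvd_card' s hd
  obtain ⟨P, hP⟩ := exists_sylow hs h2 hv
  have hps : p ≠ s := by
    rintro rfl
    exact not_dvd_card_sylow p T hpn
  have hT : Nat.card T ≠ 0 := Nat.card_pos.ne'
  -- the factorization
  obtain ⟨c, hc⟩ := hd
  set a := (Nat.card T).factorization p with ha
  have hpa : p ^ a ∣ Nat.card T := Nat.ordProj_dvd _ _
  have hsa : Nat.Coprime (p ^ a) s := Nat.Coprime.pow_left _ ((Nat.coprime_primes hp hs).2 hps)
  have hsd : p ^ a * s ∣ Nat.card T := hsa.mul_dvd_of_dvd_of_dvd hpa ⟨c, hc⟩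
  obtain ⟨m, hm⟩ := hsd
  have hpm : ¬ p ∣ m := by
    rintro ⟨m', rfl⟩
    have h3 : p ^ (a + 1) ∣ Nat.card T := ⟨s * m', by rw [hm]; ring⟩
    exact Nat.pow_succ_factorization_not_dvd hT hp h3
  have hsm : ¬ s ∣ m := by
    rintro ⟨m', rfl⟩
    exact h2 ⟨p ^ a * m', by rw [hm]; ring⟩
  have hcop : Nat.Coprime (p ^ a * s) m :=
    Nat.Coprime.mul_left (Nat.Coprime.pow_left _ ((Nat.Prime.coprime_iff_not_dvd hp).2 hpm))
      ((Nat.Prime.coprime_iff_not_dvd hs).2 hsm)
  obtain ⟨H, hH⟩ := Solvable.Hall.hall_exists (p ^ a * s) m hm hcop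
  -- Sylow in H
  have hsH : s ∣ Nat.card H := hH ▸ dvd_mul_left _ _
  have h2H : ¬ s ^ 2 ∣ Nat.card H := fun h => h2 (h.trans (card_subgroup_dvd_card H))
  obtain ⟨w, hw⟩ := exists_prime_orderOf_dvd_card' s hsH
  obtain ⟨Q, hQ⟩ := exists_sylow hs h2H hw
  have hQi : (Q : Subgroup H).index = p ^ a := by
    have h3 := (Q : Subgroup H).card_mul_index
    rw [hQ, Nat.card_zpowers, hw, hH, mul_comm (p ^ a)] at h3
    rw [hQ]
    exact Nat.eq_of_mul_eq_mul_left hs.pos h3
  have h4 : Nat.card (Sylow s H) ∣ p ^ a := hQi ▸ Sylow.card_dvd_index Q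
  obtain ⟨i, hi, hcard⟩ := (Nat.dvd_prime_pow hp).1 h4
  have h5 : Nat.card (Sylow s H) = 1 := by
    rcases Nat.eq_zero_or_pos i with h0 | h0
    · rw [hcard, h0, pow_zero]
    · exfalso
      refine hg p i hp hps h0 ((pow_dvd_pow p hi).trans hpa) ?_
      have h6 := card_sylow_modEq_one s H
      rw [hcard] at h6
      exact (Nat.modEq_iff_dvd' (Nat.one_le_pow _ _ hp.pos)).1 h6.symm
  -- H normalizes the image of Q
  have h7 : H ≤ Nm (w : T) := by
    intro x hx
    apply mem_nm_of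
    have h8 : Subsingleton (Sylow s H) := (Nat.card_eq_one_iff_unique.1 h5).1
    have h9 : (⟨x, hx⟩ : H) * w * (⟨x, hx⟩ : H)⁻¹ ∈ zpowers w := by
      have hw' : orderOf ((⟨x, hx⟩ : H) * w * (⟨x, hx⟩ : H)⁻¹) = s := by
        rw [← hw]
        exact orderOf_injective (MulAut.conj (⟨x, hx⟩ : H)).toMonoidHom (MulAut.conj (⟨x, hx⟩ : H)).injective w
      obtain ⟨Q', hQ'⟩ := exists_sylow hs h2H hw'
      rw [← hQ, Subsingleton.elim Q Q', hQ']
      exact mem_zpowers _
    obtain ⟨n, hn⟩ := mem_zpowers_iff.1 h9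
    exact mem_zpowers_iff.2 ⟨n, by rw [← coe_zpow, hn]; rfl⟩
  have hw' : orderOf (w : T) = s := by rw [orderOf_coe, hw]
  have h10 : Nat.card (Sylow s T) ∣ H.index := by
    rw [← index_nm hs h2 hw']
    exact index_dvd_of_le h7
  have h11 : H.index = m := by
    have h12 := H.card_mul_index
    rw [hH, hm] at h12
    exact Nat.eq_of_mul_eq_mul_left (Nat.mul_pos (Nat.pow_pos hp.pos) hs.pos) h12
  rw [h11] at h10
  exact hpm (hpn.trans h10)

section

variable [Finite G] {r s : ℕ}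

/-- uniqueness of the subgroup of order `s` in a solvable subgroup -/
theorem mem_zpowers_of_solvable (hs : s.Prime) (h2 : ¬ s ^ 2 ∣ Nat.card G) {K : Subgroup G} (hK : Group.IsSolvable K)
    (hg : ∀ p i : ℕ, p.Prime → p ≠ s → 0 < i → p ^ i ∣ Nat.card K → ¬ s ∣ p ^ i - 1) {v w : G} (hvK : v ∈ K)
    (hwK : w ∈ K) (hv : orderOf v = s) (hw : orderOf w = s) : w ∈ zpowers v := by
  have hf : Fact s.Prime := ⟨hs⟩
  have h2K : ¬ s ^ 2 ∣ Nat.card K := fun h => h2 (h.trans (card_subgroup_dvd_card K))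
  have hv' : orderOf (⟨v, hvK⟩ : K) = s := by rw [← hv, ← orderOf_coe]
  have hw' : orderOf (⟨w, hwK⟩ : K) = s := by rw [← hw, ← orderOf_coe]
  have hd : s ∣ Nat.card K := hv' ▸ _root_.orderOf_dvd_natCard _
  have h1 := card_sylow_eq_one hs hd h2K hg
  have h8 : Subsingleton (Sylow s K) := (Nat.card_eq_one_iff_unique.1 h1).1
  obtain ⟨Q, hQ⟩ := exists_sylow hs h2K hv'
  obtain ⟨Q', hQ'⟩ := exists_sylow hs h2K hw'
  have h9 : (⟨w, hwK⟩ : K) ∈ zpowers (⟨v, hvK⟩ : K) := by
    rw [← hQ, Subsingleton.elim Q Q', hQ']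
    exact mem_zpowers _
  obtain ⟨n, hn⟩ := mem_zpowers_iff.1 h9
  exact mem_zpowers_iff.2 ⟨n, congrArg Subtype.val hn⟩

theorem le_nm_of_solvable (hs : s.Prime) (h2 : ¬ s ^ 2 ∣ Nat.card G) {K : Subgroup G} (hK : Group.IsSolvable K)
    (hg : ∀ p i : ℕ, p.Prime → p ≠ s → 0 < i → p ^ i ∣ Nat.card K → ¬ s ∣ p ^ i - 1) {v : G} (hvK : v ∈ K)
    (hv : orderOf v = s) : K ≤ Nm v := by
  intro x hx
  apply mem_nm_of
  refine mem_zpowers_of_solvable hs h2 hK hg hvK (K.mul_mem (K.mul_mem hx hvK) (K.inv_mem hx)) hv ?_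
  rw [← hv]
  exact orderOf_injective (MulAut.conj x).toMonoidHom (MulAut.conj x).injective v

/-- the centralizer of an element of order `s` has odd order -/
theorem odd_cm (hna : NA s G) {v : G} (hv : orderOf v = s) : Odd (Nat.card (Cm v)) := by
  rw [← Nat.not_even_iff_odd, even_iff_two_dvd]
  intro h
  have hf : Fact (Nat.Prime 2) := ⟨Nat.prime_two⟩
  obtain ⟨t, ht⟩ := exists_prime_orderOf_dvd_card' 2 h
  exact hna v t hv (by rw [orderOf_coe, ht]) (mem_cent.1 t.2).symm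

theorem solvable_cm (hna : NA s G) {v : G} (hv : orderOf v = s) : Group.IsSolvable (Cm v) :=
  S0205.result (odd_cm hna hv)

omit [Finite G] in
/-- the factor `N(⟨v⟩) / C(v)` -/
theorem card_nm (hs : s.Prime) {v : G} (hv : orderOf v = s) : ∃ k, k ∣ s - 1 ∧ Nat.card (Nm v) = Nat.card (Cm v) * k := by
  have hf : Fact s.Prime := ⟨hs⟩
  have hC : (zpowers v : Subgroup G).normalizerMonoidHom.ker = (Cm v).subgroupOf (Nm v) := by
    rw [normalizerMonoidHom_ker]
    congr 1
    exact cent_zpowers v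
  refine ⟨Nat.card (zpowers v : Subgroup G).normalizerMonoidHom.range, ?_, ?_⟩
  · have h1 := card_subgroup_dvd_card (zpowers v : Subgroup G).normalizerMonoidHom.range
    have h2 : Nat.card (MulAut (zpowers v : Subgroup G)) = s - 1 := by
      have h3 := Nat.card_congr (IsCyclic.mulAutMulEquiv (zpowers v : Subgroup G)).toEquiv
      rw [h3, Nat.card_zpowers, hv, Nat.card_eq_fintype_card, ZMod.card_units_eq_totient, Nat.totient_prime hs]
    rwa [h2] at h1
  · have h1 := (zpowers v : Subgroup G).normalizerMonoidHom.ker.card_mul_index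
    rw [index_ker, hC] at h1
    rw [← h1]
    congr 1
    rw [← Nat.card_congr (subgroupOfEquivOfLe (cm_le_nm v)).toEquiv]

/-- Burnside's transfer theorem -/
theorem nm_ne_cm [IsSimpleGroup G] (hs : s.Prime) (h2 : ¬ s ^ 2 ∣ Nat.card G) (hne : Nat.card G ≠ s) {v : G}
    (hv : orderOf v = s) : Nm v ≠ Cm v := by
  have hf : Fact s.Prime := ⟨hs⟩
  intro h
  obtain ⟨P, hP⟩ := exists_sylow hs h2 hv
  have hPN : normalizer (P : Set G) ≤ centralizer (P : Set G) := by
    have h3 : (P : Set G) = ((zpowers v : Subgroup G) : Set G) := by rw [← hP]; rfl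
    rw [h3, cent_zpowers]
    exact h.le
  have h4 := MonoidHom.ker_transferSylow_isComplement' P hPN
  have h5 := h4.card_mul_card
  rcases IsSimpleGroup.eq_bot_or_eq_top_of_normal _ (MonoidHom.normal_ker (MonoidHom.transferSylow P hPN)) with h6 | h6
  · rw [h6, card_bot, one_mul, hP, Nat.card_zpowers, hv] at h5
    exact hne h5.symm
  · rw [h6, card_top, hP, Nat.card_zpowers, hv] at h5
    have h7 : 0 < Nat.card G := Nat.card_pos
    have h8 := hs.one_lt
    nlinarith only [h5, h7, h8]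

/-- one prime: the order of `N(⟨v⟩)` -/
theorem single [IsSimpleGroup G] (hs : s.Prime) (hs2 : ¬ s ^ 2 ∣ Nat.card G) (hne : Nat.card G ≠ s) (ns : NA s G) {v : G}
    (hv : orderOf v = s) :
    ∃ c k, Nat.card (Cm v) = s * c ∧ Nat.card (Nm v) = s * c * k ∧ Odd c ∧ k ∣ s - 1 ∧ k ≠ 1 ∧ (Nm v).index % s = 1 ∧
      ∀ t, t.Prime → t ∣ c → Adj G t s := by
  obtain ⟨k, hk, hN⟩ := card_nm hs hv
  have h1 : s ∣ Nat.card (Cm v) := by
    have h0 : orderOf (⟨v, mem_cent.2 rfl⟩ : Cm v) = s := by rw [← hv, ← orderOf_coe]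
    exact h0 ▸ _root_.orderOf_dvd_natCard _
  obtain ⟨c, hc⟩ := h1
  have hodd := odd_cm ns hv
  rw [hc] at hN hodd
  refine ⟨c, k, hc, hN, (Nat.odd_mul.1 hodd).2, hk, ?_, index_nm_mod hs hs2 hv, ?_⟩
  · rintro rfl
    apply nm_ne_cm hs hs2 hne hv
    symm
    apply eq_of_le_of_card_ge (cm_le_nm v)
    rw [hN, hc, mul_one]
  · intro t ht htc
    have hft : Fact t.Prime := ⟨ht⟩
    have hfs : Fact s.Prime := ⟨hs⟩
    have h2 : t ∣ Nat.card (Cm v) := hc ▸ htc.mul_left s
    obtain ⟨y, hy⟩ := exists_prime_orderOf_dvd_card' t h2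
    have hts : t ≠ s := by
      rintro rfl
      apply hs2
      rw [pow_two]
      have h3 : t * t ∣ t * c := Nat.mul_dvd_mul_left _ htc
      exact h3.trans (hc ▸ card_subgroup_dvd_card _)
    refine ⟨(y : G) * v, ?_⟩
    have h4 : Commute (y : G) v := mem_cent.1 y.2
    rw [h4.orderOf_mul_eq_mul_orderOf_of_coprime, orderOf_coe, hy, hv]
    rw [orderOf_coe, hy, hv]
    exact (Nat.coprime_primes ht hs).2 hts

/-- the subgroup `N(⟨u⟩)` is contained in `N(⟨v⟩)` -/
theorem nm_le_nm (hs : s.Prime) (hs2 : ¬ s ^ 2 ∣ Nat.card G) (nr : NA r G) {u v : G} (hu : orderOf u = r)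
    (hv : orderOf v = s) (huv : u * v = v * u)
    (hg : ∀ p i : ℕ, p.Prime → p ≠ s → p ≠ 2 → 0 < i → p ^ i ∣ Nat.card G → ¬ s ∣ p ^ i - 1) : Nm u ≤ Nm v := by
  have hg' : ∀ p i : ℕ, p.Prime → p ≠ s → 0 < i → p ^ i ∣ Nat.card (Cm u) → ¬ s ∣ p ^ i - 1 := by
    intro p i hp hps hi hd
    refine hg p i hp hps ?_ hi (hd.trans (card_subgroup_dvd_card _))
    rintro rfl
    have h1 := odd_cm nr hu
    rw [← Nat.not_even_iff_odd, even_iff_two_dvd] at h1
    exact h1 ((dvd_pow_self 2 hi.ne').trans hd)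
  intro g hg1
  apply mem_nm_of
  refine mem_zpowers_of_solvable hs hs2 (solvable_cm nr hu) hg' (mem_cent.2 huv.symm) ?_ hv ?_
  · -- `g v g⁻¹` centralizes `u`
    have h1 : g⁻¹ * u * g ∈ zpowers u := by
      have h2 : g⁻¹ ∈ Nm u := (Nm u).inv_mem hg1
      have h3 := (mem_nm.1 h2 u).1 (mem_zpowers u)
      rwa [inv_inv] at h3
    obtain ⟨n, hn⟩ := mem_zpowers_iff.1 h1
    have h4 : Commute v (g⁻¹ * u * g) := by
      rw [← hn]
      exact Commute.zpow_right (show Commute v u from huv.symm) n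
    rw [mem_cent]
    calc g * v * g⁻¹ * u = g * (v * (g⁻¹ * u * g)) * g⁻¹ := by group
      _ = g * ((g⁻¹ * u * g) * v) * g⁻¹ := by rw [h4.eq]
      _ = u * (g * v * g⁻¹) := by group
  · rw [← hv]
    exact orderOf_injective (MulAut.conj g).toMonoidHom (MulAut.conj g).injective v

/-- indices of larger subgroups -/
theorem index_mod_of_le (hr : r.Prime) (hr2 : ¬ r ^ 2 ∣ Nat.card G) {u : G} (hu : orderOf u = r) {W : Subgroup G}
    (hW : Nm u ≤ W) : W.index % r = 1 := by
  have hfr : Fact r.Prime := ⟨hr⟩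
  have huW : u ∈ W := hW (cm_le_nm u (mem_cent.2 rfl))
  have hu' : orderOf (⟨u, huW⟩ : W) = r := by rw [← hu, ← orderOf_coe]
  have h1 := index_nm_mod hr hr2 hu
  have hr2W : ¬ r ^ 2 ∣ Nat.card W := fun h => hr2 (h.trans (card_subgroup_dvd_card W))
  have h2 := index_nm_mod hr hr2W hu'
  have h3 : (Nm (⟨u, huW⟩ : W)) = (Nm u).subgroupOf W := by
    ext x
    rw [mem_subgroupOf, mem_nm, mem_nm]
    have key : ∀ y : W, y ∈ zpowers (⟨u, huW⟩ : W) ↔ (y : G) ∈ zpowers u := by
      intro y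
      rw [mem_zpowers_iff, mem_zpowers_iff]
      constructor
      · rintro ⟨n, hn⟩
        exact ⟨n, congrArg Subtype.val hn⟩
      · rintro ⟨n, hn⟩
        exact ⟨n, Subtype.ext hn⟩
    constructor
    · intro h y
      constructor
      · intro hy
        have h5 : y ∈ W := by
          obtain ⟨n, rfl⟩ := mem_zpowers_iff.1 hy
          exact W.zpow_mem huW n
        exact (key _).1 ((h ⟨y, h5⟩).1 ((key ⟨y, h5⟩).2 hy))
      · intro hy
        have h5 : (x : G) * y * (x : G)⁻¹ ∈ W := by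
          obtain ⟨n, hn⟩ := mem_zpowers_iff.1 hy
          rw [← hn]
          exact W.zpow_mem huW n
        have h6 : y ∈ W := by
          have h7 := W.mul_mem (W.mul_mem (W.inv_mem x.2) h5) x.2
          have h8 : (x : G)⁻¹ * (x * y * (x : G)⁻¹) * x = y := by group
          rwa [h8] at h7
        exact (key ⟨y, h6⟩).1 ((h ⟨y, h6⟩).2 ((key _).2 hy))
    · intro h y
      rw [key, key]
      exact h y
  have h4 : (Nm u).index = ((Nm u).subgroupOf W).index * W.index := by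
    have h5 := relIndex_mul_index hW
    rw [← h5]
    rfl
  rw [h3] at h2
  rw [h4, Nat.mul_mod, h2, one_mul, Nat.mod_mod] at h1
  exact h1

/-- two primes: the order of `N(⟨v⟩)` -/
theorem pair [IsSimpleGroup G] (hr : r.Prime) (hs : s.Prime) (hrs : r ≠ s) (hr2 : ¬ r ^ 2 ∣ Nat.card G)
    (hs2 : ¬ s ^ 2 ∣ Nat.card G) (nr : NA r G) (ns : NA s G)
    (hg : ∀ p i : ℕ, p.Prime → p ≠ s → p ≠ 2 → 0 < i → p ^ i ∣ Nat.card G → ¬ s ∣ p ^ i - 1) {u v : G}
    (hu : orderOf u = r) (hv : orderOf v = s) (huv : u * v = v * u) :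
    ∃ c k, Nat.card (Cm v) = r * s * c ∧ Nat.card (Nm v) = r * s * c * k ∧ Odd c ∧ k ∣ s - 1 ∧ k ≠ 1 ∧
      (Nm v).index % (r * s) = 1 ∧ ∀ t, t.Prime → t ∣ c → Adj G t s := by
  have hfr : Fact r.Prime := ⟨hr⟩
  have hfs : Fact s.Prime := ⟨hs⟩
  have hne : Nat.card G ≠ s := by
    intro h
    have h1 : r ∣ Nat.card G := hu ▸ _root_.orderOf_dvd_natCard _
    rw [h] at h1
    exact hrs ((Nat.prime_dvd_prime_iff_eq hr hs).1 h1)
  obtain ⟨c, k, hc, hN, hodd, hk, hk1, hi, hadj⟩ := single hs hs2 hne ns hv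
  have h1 : r ∣ Nat.card (Cm v) := by
    have h0 : orderOf (⟨u, mem_cent.2 huv⟩ : Cm v) = r := by rw [← hu, ← orderOf_coe]
    exact h0 ▸ _root_.orderOf_dvd_natCard _
  have h2 : r ∣ c := by
    rw [hc] at h1
    exact (hr.dvd_mul.1 h1).resolve_left (fun h => hrs ((Nat.prime_dvd_prime_iff_eq hr hs).1 h))
  obtain ⟨c', rfl⟩ := h2
  refine ⟨c', k, by rw [hc]; ring, by rw [hN]; ring, (Nat.odd_mul.1 hodd).2, hk, hk1, ?_, fun t ht htc => hadj t ht (htc.mul_left _)⟩
  have h3 := index_mod_of_le hr hr2 hu (nm_le_nm hs hs2 nr hu hv huv hg)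
  have h4 : (Nm v).index ≡ 1 [MOD r] := by rw [Nat.ModEq, h3, Nat.one_mod_eq_one.2 hr.one_lt.ne']
  have h5 : (Nm v).index ≡ 1 [MOD s] := by rw [Nat.ModEq, hi, Nat.one_mod_eq_one.2 hs.one_lt.ne']
  have h6 := (Nat.modEq_and_modEq_iff_modEq_mul ((Nat.coprime_primes hr hs).2 hrs)).1 ⟨h4, h5⟩
  rw [Nat.ModEq] at h6
  rw [h6]
  exact Nat.mod_eq_of_lt (by nlinarith only [hr.one_lt, hs.one_lt])

end

/-! ### the numerical check -/

/-- the product of a list of prime powers -/
def prodL (L : List (ℕ × ℕ)) : ℕ := (L.map fun x => x.1 ^ x.2).prod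

/-- the divisors of a product of prime powers -/
def divs : List (ℕ × ℕ) → List ℕ
  | [] => [1]
  | (p, a) :: L => (List.range (a + 1)).flatMap fun i => (divs L).map (p ^ i * ·)

theorem mem_divs : ∀ {L : List (ℕ × ℕ)} (_ : ∀ x ∈ L, x.1.Prime) {d : ℕ}, d ∣ prodL L → d ∈ divs L
  | [], _, d, hd => by
    rw [prodL, List.map_nil, List.prod_nil, Nat.dvd_one] at hd
    rw [hd]
    exact List.mem_singleton.2 rfl
  | (p, a) :: L, hL, d, hd => by
    rw [prodL, List.map_cons, List.prod_cons] at hd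
    obtain ⟨d1, d2, h1, h2, rfl⟩ := (Nat.dvd_mul).1 hd
    obtain ⟨i, hi, rfl⟩ := (Nat.dvd_prime_pow (hL (p, a) List.mem_cons_self)).1 h1
    rw [divs, List.mem_flatMap]
    exact ⟨i, List.mem_range.2 (Nat.lt_succ_of_le hi), List.mem_map.2
      ⟨d2, mem_divs (fun x hx => hL x (List.mem_cons_of_mem _ hx)) h2, rfl⟩⟩

theorem coprime_prodL {p : ℕ} (hp : p.Prime) : ∀ {L : List (ℕ × ℕ)} (_ : ∀ x ∈ L, x.1.Prime)
    (_ : ∀ x ∈ L, x.1 ≠ p), Nat.Coprime p (prodL L)
  | [], _, _ => by rw [prodL, List.map_nil, List.prod_nil]; exact Nat.coprime_one_right p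
  | (q, a) :: L, hL, hn => by
    rw [prodL, List.map_cons, List.prod_cons]
    exact Nat.Coprime.mul_right (Nat.Coprime.pow_right _ ((Nat.coprime_primes hp (hL _ List.mem_cons_self)).2
      (hn _ List.mem_cons_self).symm)) (coprime_prodL hp (fun x hx => hL x (List.mem_cons_of_mem _ hx))
        fun x hx => hn x (List.mem_cons_of_mem _ hx))

theorem exists_mem_of_pow_dvd {p i : ℕ} (hp : p.Prime) (hi : 0 < i) : ∀ {L : List (ℕ × ℕ)} (_ : ∀ x ∈ L, x.1.Prime)
    (_ : (L.map Prod.fst).Nodup), p ^ i ∣ prodL L → ∃ b, (p, b) ∈ L ∧ i ≤ b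
  | [], _, _, h => by
    rw [prodL, List.map_nil, List.prod_nil, Nat.dvd_one, Nat.pow_eq_one] at h
    rcases h with h | h
    · exact absurd h hp.one_lt.ne'
    · omega
  | (q, a) :: L, hL, hn, h => by
    rw [List.map_cons, List.nodup_cons] at hn
    rw [prodL, List.map_cons, List.prod_cons] at h
    by_cases hpq : p = q
    · subst hpq
      have h1 : Nat.Coprime (p ^ i) (prodL L) := Nat.Coprime.pow_left _
        (coprime_prodL hp (fun x hx => hL x (List.mem_cons_of_mem _ hx)) fun x hx hxp =>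
          hn.1 (List.mem_map.2 ⟨x, hx, hxp⟩))
      have h2 : p ^ i ∣ p ^ a := h1.dvd_of_dvd_mul_right h
      exact ⟨a, List.mem_cons_self, (Nat.pow_dvd_pow_iff_le_right hp.one_lt).1 h2⟩
    · have h1 : Nat.Coprime (p ^ i) (q ^ a) := Nat.Coprime.pow _ _
        ((Nat.coprime_primes hp (hL _ List.mem_cons_self)).2 hpq)
      have h2 : p ^ i ∣ prodL L := h1.dvd_of_dvd_mul_left h
      obtain ⟨b, hb, hib⟩ := exists_mem_of_pow_dvd hp hi (fun x hx => hL x (List.mem_cons_of_mem _ hx)) hn.2 h2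
      exact ⟨b, List.mem_cons_of_mem _ hb, hib⟩

/-- `s` divides no `p ^ i - 1` with `p` odd and `p ^ i` dividing the product -/
def okGood (L : List (ℕ × ℕ)) (s : ℕ) : Bool :=
  L.all fun x => x.1 == s || x.1 == 2 || (List.range x.2).all fun i => (x.1 ^ (i + 1) - 1) % s != 0

theorem good_of_ok {L : List (ℕ × ℕ)} (hL : ∀ x ∈ L, x.1.Prime) (hn : (L.map Prod.fst).Nodup) {s : ℕ}
    (h : okGood L s = true) {N : ℕ} (hN : N = prodL L) :
    ∀ p i : ℕ, p.Prime → p ≠ s → p ≠ 2 → 0 < i → p ^ i ∣ N → ¬ s ∣ p ^ i - 1 := by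
  intro p i hp hps hp2 hi hd hs
  obtain ⟨b, hb, hib⟩ := exists_mem_of_pow_dvd hp hi hL hn (hN ▸ hd)
  rw [okGood, List.all_eq_true] at h
  have h1 := h _ hb
  simp only [Bool.or_eq_true, beq_iff_eq, List.all_eq_true, List.mem_range, bne_iff_ne, ne_eq] at h1
  rcases h1 with (h1 | h1) | h1
  · exact hps h1
  · exact hp2 h1
  · apply h1 (i - 1) (by omega)
    rw [show i - 1 + 1 = i by omega]
    exact Nat.mod_eq_zero_of_dvd hs

/-- the check for pairs: `M = N / (r s)` -/
def okPair (M : ℕ) (L : List (ℕ × ℕ)) (ks : List ℕ) (m : ℕ) (bad : ℕ → Bool) : Bool :=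
  (divs L).all fun c => ks.all fun k => !(M % (c * k) == 0 && M / (c * k) % m == 1) || bad c

theorem okPair_spec {M : ℕ} {L : List (ℕ × ℕ)} {ks : List ℕ} {m : ℕ} {bad : ℕ → Bool} (hL : ∀ x ∈ L, x.1.Prime)
    {a : ℕ} (hM : M = 2 ^ a * prodL L) (hM0 : 0 < M)
    (h : okPair M L ks m bad = true) {c k e : ℕ} (hc : Odd c) (hk : k ∈ ks) (he : c * k * e = M) (hem : e % m = 1) :
    bad c = true := by
  have h1 : c ∣ prodL L := by
    have h2 : c ∣ 2 ^ a * prodL L := hM ▸ (he ▸ (dvd_mul_right c k).mul_right e)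
    exact (Nat.Coprime.pow_right _ (Nat.coprime_two_right.2 hc)).dvd_of_dvd_mul_left h2
  rw [okPair, List.all_eq_true] at h
  have h2 := h c (mem_divs hL h1)
  rw [List.all_eq_true] at h2
  have h3 := h2 k hk
  have hck : 0 < c * k := Nat.pos_of_ne_zero (by rintro h0; rw [h0, zero_mul] at he; omega)
  have h4 : M % (c * k) = 0 := by rw [← he]; exact Nat.mul_mod_right _ _
  have h5 : M / (c * k) % m = 1 := by rw [← he, Nat.mul_div_cancel_left _ hck]; exact hem
  rw [h4, h5] at h3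
  simpa using h3

/-- the list contains all divisors `> 1` of `s - 1` -/
def okKs (s : ℕ) (ks : List ℕ) : Bool :=
  (List.range s).all fun k => decide (k ≤ 1) || (s - 1) % k != 0 || ks.contains k

theorem okKs_spec {s : ℕ} {ks : List ℕ} (h : okKs s ks = true) (hs : 1 < s) {k : ℕ} (hk : k ∣ s - 1) (hk1 : k ≠ 1) :
    k ∈ ks := by
  have h1 : k ≤ s - 1 := Nat.le_of_dvd (by omega) hk
  rw [okKs, List.all_eq_true] at h
  have h2 := h k (List.mem_range.2 (by omega))
  have h3 : k ≠ 0 := by rintro rfl; rw [Nat.zero_dvd] at hk; omega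
  simp only [Bool.or_eq_true, decide_eq_true_eq, bne_iff_ne, ne_eq, List.contains_iff_mem] at h2
  rcases h2 with (h2 | h2) | h2
  · omega
  · exact absurd (Nat.mod_eq_zero_of_dvd hk) h2
  · exact h2

/-- **The engine**: two primes which are not adjacent to 2 -/
theorem not_adj [Finite G] [IsSimpleGroup G] {r s a M : ℕ} {L : List (ℕ × ℕ)} {ks kills : List ℕ}
    (hN : Nat.card G = r * s * M) (hM : M = 2 ^ a * prodL L) (hM0 : 0 < M)
    (hp : ∀ x ∈ (2, a) :: (r, 1) :: (s, 1) :: L, x.1.Prime)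
    (hn : (((2, a) :: (r, 1) :: (s, 1) :: L).map Prod.fst).Nodup)
    (hg : okGood ((2, a) :: (r, 1) :: (s, 1) :: L) s = true) (hks : okKs s ks = true)
    (hok : okPair M L ks (r * s) (fun c => kills.any fun t => c % t == 0) = true)
    (nr : NA r G) (ns : NA s G) (hkill : ∀ t ∈ kills, t.Prime ∧ ¬ Adj G t s) : ¬ Adj G r s := by
  have hL : Nat.card G = prodL ((2, a) :: (r, 1) :: (s, 1) :: L) := by
    rw [hN, hM]
    simp only [prodL, List.map_cons, List.prod_cons]
    ring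
  have hr : r.Prime := hp (r, 1) (by simp)
  have hs : s.Prime := hp (s, 1) (by simp)
  have hrs : r ≠ s := by
    intro h
    simp only [List.map_cons, List.nodup_cons, List.mem_cons] at hn
    exact hn.2.1 (Or.inl h)
  have hone : ∀ q b, (q, b) ∈ (2, a) :: (r, 1) :: (s, 1) :: L → q = r ∨ q = s → b = 1 := by
    intro q b hq hqq
    simp only [List.map_cons, List.nodup_cons, List.mem_cons, not_or, List.mem_map, not_exists, not_and] at hn
    simp only [List.mem_cons, Prod.mk.injEq] at hq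
    rcases hq with ⟨h1, -⟩ | ⟨-, h1⟩ | ⟨-, h1⟩ | h1
    · rcases hqq with h2 | h2
      · exact absurd (h1.symm.trans h2) hn.1.1
      · exact absurd (h1.symm.trans h2) hn.1.2.1
    · exact h1
    · exact h1
    · rcases hqq with h2 | h2
      · exact absurd h2 (hn.2.1.2 (q, b) h1)
      · exact absurd h2 (hn.2.2.1 (q, b) h1)
  have hsq : ∀ q, q.Prime → (q = r ∨ q = s) → ¬ q ^ 2 ∣ Nat.card G := by
    intro q hq hqq hd
    rw [hL] at hd
    obtain ⟨b, hb, hb2⟩ := exists_mem_of_pow_dvd hq (by norm_num) hp hn hd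
    have := hone q b hb hqq
    omega
  rintro hadj
  obtain ⟨u, v, hu, hv, huv⟩ := hadj.exists_commute hr hs
  obtain ⟨c, k, -, hcard, hc, hk, hk1, hi, hadj'⟩ := pair hr hs hrs (hsq r hr (Or.inl rfl)) (hsq s hs (Or.inr rfl)) nr ns
    (good_of_ok hp hn hg hL) hu hv huv
  have h1 : c * k * (Nm v).index = M := by
    have h2 := (Nm v).card_mul_index
    rw [hcard, hN] at h2
    apply Nat.eq_of_mul_eq_mul_left (Nat.mul_pos hr.pos hs.pos)
    rw [← h2]
    ring
  have h3 := okPair_spec (fun x hx => hp x (by simp [hx])) hM hM0 hok hc (okKs_spec hks hs.one_lt hk hk1) h1 hi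
  rw [List.any_eq_true] at h3
  obtain ⟨t, ht, htc⟩ := h3
  obtain ⟨h4, h5⟩ := hkill t ht
  exact h5 (hadj' t h4 (Nat.dvd_of_mod_eq_zero (by simpa using htc)))

/-- **One prime** not adjacent to 2: Sylow's congruence and Burnside's transfer -/
theorem not_adj_single [Finite G] [IsSimpleGroup G] {s a M t : ℕ} {L : List (ℕ × ℕ)} {ks kills : List ℕ}
    (hN : Nat.card G = s * M) (hM : M = 2 ^ a * prodL L) (hM1 : 1 < M)
    (hp : ∀ x ∈ (2, a) :: (s, 1) :: L, x.1.Prime)
    (hn : (((2, a) :: (s, 1) :: L).map Prod.fst).Nodup) (ht : t.Prime) (hts : t ≠ s) (hks : okKs s ks = true)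
    (hok : okPair M L ks s (fun c => c % t != 0 || kills.any fun t => c % t == 0) = true)
    (ns : NA s G) (hkill : ∀ t ∈ kills, t.Prime ∧ ¬ Adj G t s) : ¬ Adj G t s := by
  have hL : Nat.card G = prodL ((2, a) :: (s, 1) :: L) := by
    rw [hN, hM]
    simp only [prodL, List.map_cons, List.prod_cons]
    ring
  have hs : s.Prime := hp (s, 1) (by simp)
  have hsq : ¬ s ^ 2 ∣ Nat.card G := by
    intro hd
    rw [hL] at hd
    obtain ⟨b, hb, hb2⟩ := exists_mem_of_pow_dvd hs (by norm_num) hp hn hd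
    simp only [List.map_cons, List.nodup_cons, List.mem_cons, not_or, List.mem_map, not_exists, not_and] at hn
    simp only [List.mem_cons, Prod.mk.injEq] at hb
    rcases hb with ⟨h1, -⟩ | ⟨-, h1⟩ | h1
    · exact hn.1.1 h1.symm
    · omega
    · exact hn.2.1 (s, b) h1 rfl
  intro hadj
  obtain ⟨u, v, hu, hv, huv⟩ := hadj.exists_commute ht hs
  have hne : Nat.card G ≠ s := by
    rw [hN]
    intro h
    have := hs.pos
    nlinarith only [hM1, h, this]
  obtain ⟨c, k, hc, hcard, hodd, hk, hk1, hi, hadj'⟩ := single hs hsq hne ns hv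
  have h1 : c * k * (Nm v).index = M := by
    have h2 := (Nm v).card_mul_index
    rw [hcard, hN] at h2
    apply Nat.eq_of_mul_eq_mul_left hs.pos
    rw [← h2]
    ring
  have h3 := okPair_spec (fun x hx => hp x (by simp [hx])) hM (by omega) hok hodd (okKs_spec hks hs.one_lt hk hk1) h1 hi
  have hft : Fact t.Prime := ⟨ht⟩
  have h4 : t ∣ Nat.card (Cm v) := by
    have h0 : orderOf (⟨u, mem_cent.2 huv⟩ : Cm v) = t := by rw [← hu, ← orderOf_coe]
    exact h0 ▸ _root_.orderOf_dvd_natCard _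
  have h5 : t ∣ c := by
    rw [hc] at h4
    exact (ht.dvd_mul.1 h4).resolve_left (fun h => hts ((Nat.prime_dvd_prime_iff_eq ht hs).1 h))
  simp only [Bool.or_eq_true, bne_iff_ne, ne_eq, List.any_eq_true, beq_iff_eq] at h3
  rcases h3 with h3 | ⟨t', ht', htc⟩
  · exact h3 (Nat.mod_eq_zero_of_dvd h5)
  · obtain ⟨h6, h7⟩ := hkill t' ht'
    exact h7 (hadj' t' h6 (Nat.dvd_of_mod_eq_zero htc))

end Cfsg.Agent.H149.Sp.Eng

private theorem dce_888cd00bc8ec : _root_.True := by
  try have : _root_.True := by simp only [_root_.Cfsg.Agent.H149.Sp.Eng.prodL.eq_1]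
  try have : _root_.True := by simp only [_root_.Cfsg.Agent.H149.Sp.Eng.okGood.eq_1]
  try have : _root_.True := by simp only [_root_.Cfsg.Agent.H149.Sp.Eng.divs.eq_def]
  try have : _root_.True := by simp only [_root_.Cfsg.Agent.H149.Sp.Eng.Nm.eq_1]
  try have : _root_.True := by simp only [_root_.Cfsg.Agent.H149.Sp.Eng.okKs.eq_1]
  try have : _root_.True := by simp only [_root_.Cfsg.Agent.H149.Sp.Eng.divs.eq_1]
  try have : _root_.True := by simp only [_root_.Cfsg.Agent.H149.Sp.Eng.okPair.eq_1]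
  try have : _root_.True := by simp only [_root_.Cfsg.Agent.H149.Sp.Eng.divs.eq_2]
  exact _root_.True.intro
end

-- part: H149/Sp/Quot
section
set_option linter.all false
open scoped Cfsg.Agent.FastGrp

/-!
# Non-adjacency from the centralizer of one more element
-/

set_option autoImplicit false

namespace Cfsg.Agent.H149.Sp.Eng

open Subgroup Cfsg.Agent.H163.PG Cfsg.Agent.H393.Iso
open scoped Pointwise

variable {G : Type*} [Group G]

theorem card_mulAut_zpowers {s : ℕ} (hs : s.Prime) {v : G} (hv : orderOf v = s) :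
    Nat.card (MulAut (zpowers v : Subgroup G)) = s - 1 := by
  have hf : Fact s.Prime := ⟨hs⟩
  have h3 := Nat.card_congr (IsCyclic.mulAutMulEquiv (zpowers v : Subgroup G)).toEquiv
  rw [h3, Nat.card_zpowers, hv, Nat.card_eq_fintype_card, ZMod.card_units_eq_totient, Nat.totient_prime hs]

/-- an element of `N(⟨v⟩)` of order prime to `s - 1` centralizes `v` -/
theorem mem_cm_of_mem_nm {s : ℕ} (hs : s.Prime) {v : G} (hv : orderOf v = s) {y : G} (hy : y ∈ Nm v)
    (hc : Nat.Coprime (orderOf y) (s - 1)) : y ∈ Cm v := by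
  have h0 : Finite (MulAut (zpowers v : Subgroup G)) := by
    apply Nat.finite_of_card_ne_zero
    rw [card_mulAut_zpowers hs hv]
    have := hs.two_le
    omega
  have h1 : orderOf ((zpowers v : Subgroup G).normalizerMonoidHom ⟨y, hy⟩) ∣ orderOf y := by
    have := orderOf_map_dvd (zpowers v : Subgroup G).normalizerMonoidHom (⟨y, hy⟩ : Nm v)
    rwa [orderOf_mk] at this
  have h2 : orderOf ((zpowers v : Subgroup G).normalizerMonoidHom ⟨y, hy⟩) ∣ s - 1 := by
    rw [← card_mulAut_zpowers hs hv]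
    exact orderOf_dvd_natCard _
  have h3 := Nat.dvd_gcd h1 h2
  rw [hc, Nat.dvd_one, orderOf_eq_one_iff] at h3
  have h4 : (⟨y, hy⟩ : Nm v) ∈ (zpowers v : Subgroup G).normalizerMonoidHom.ker := h3
  rw [normalizerMonoidHom_ker, mem_subgroupOf, cent_zpowers] at h4
  exact h4

variable [Finite G]

/-- conjugating an element of order `r` into `⟨u⟩` -/
theorem exists_conj {r : ℕ} (hr : r.Prime) (hr2 : ¬ r ^ 2 ∣ Nat.card G) {u u' : G} (hu : orderOf u = r)
    (hu' : orderOf u' = r) : ∃ g : G, u ∈ (zpowers (g * u' * g⁻¹)) := by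
  have hf : Fact r.Prime := ⟨hr⟩
  obtain ⟨P, hP⟩ := exists_sylow hr hr2 hu
  obtain ⟨P', hP'⟩ := exists_sylow hr hr2 hu'
  obtain ⟨g, hg⟩ := MulAction.exists_smul_eq G P' P
  refine ⟨g, ?_⟩
  have h1 : ((g • P' : Sylow r G) : Subgroup G) = zpowers u := by rw [hg, hP]
  rw [Sylow.coe_subgroup_smul, hP'] at h1
  have h2 : u ∈ MulAut.conj g • zpowers u' := h1 ▸ mem_zpowers u
  obtain ⟨x, hx, hxu⟩ := h2
  obtain ⟨n, rfl⟩ := mem_zpowers_iff.1 hx
  refine mem_zpowers_iff.2 ⟨n, ?_⟩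
  rw [← hxu]
  show (g * u' * g⁻¹) ^ n = g * u' ^ n * g⁻¹
  rw [← conj_zpow]

/-- if `r` and `s` are adjacent then each element of order `r` commutes with one of order `s` -/
theorem exists_comm_of_adj {r s : ℕ} (hr : r.Prime) (hs : s.Prime) (hr2 : ¬ r ^ 2 ∣ Nat.card G) {u : G}
    (hu : orderOf u = r) (h : Adj G r s) : ∃ v : G, orderOf v = s ∧ u * v = v * u := by
  obtain ⟨u', v', hu', hv', huv⟩ := h.exists_commute hr hs
  obtain ⟨g, hg⟩ := exists_conj hr hr2 hu hu'
  refine ⟨g * v' * g⁻¹, ?_, ?_⟩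
  · rw [← hv']
    exact orderOf_injective (MulAut.conj g).toMonoidHom (MulAut.conj g).injective v'
  · obtain ⟨n, hn⟩ := mem_zpowers_iff.1 hg
    have h1 : Commute (g * u' * g⁻¹) (g * v' * g⁻¹) := by
      show g * u' * g⁻¹ * (g * v' * g⁻¹) = g * v' * g⁻¹ * (g * u' * g⁻¹)
      calc g * u' * g⁻¹ * (g * v' * g⁻¹) = g * (u' * v') * g⁻¹ := by group
        _ = g * (v' * u') * g⁻¹ := by rw [huv]
        _ = g * v' * g⁻¹ * (g * u' * g⁻¹) := by group
    rw [← hn]
    exact h1.zpow_left n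

/-- general form of `nm_le_nm` -/
theorem nm_le_nm_of_solvable {s : ℕ} (hs : s.Prime) (hs2 : ¬ s ^ 2 ∣ Nat.card G) {u v : G}
    (hsol : Group.IsSolvable (Cm u)) (hv : orderOf v = s) (huv : u * v = v * u)
    (hg' : ∀ p i : ℕ, p.Prime → p ≠ s → 0 < i → p ^ i ∣ Nat.card (Cm u) → ¬ s ∣ p ^ i - 1) : Nm u ≤ Nm v := by
  intro g hg1
  apply mem_nm_of
  refine mem_zpowers_of_solvable hs hs2 hsol hg' (mem_cent.2 huv.symm) ?_ hv ?_
  · -- `g v g⁻¹` centralizes `u`
    have h1 : g⁻¹ * u * g ∈ zpowers u := by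
      have h2 : g⁻¹ ∈ Nm u := (Nm u).inv_mem hg1
      have h3 := (mem_nm.1 h2 u).1 (mem_zpowers u)
      rwa [inv_inv] at h3
    obtain ⟨n, hn⟩ := mem_zpowers_iff.1 h1
    have h4 : Commute v (g⁻¹ * u * g) := by
      rw [← hn]
      exact Commute.zpow_right (show Commute v u from huv.symm) n
    rw [mem_cent]
    calc g * v * g⁻¹ * u = g * (v * (g⁻¹ * u * g)) * g⁻¹ := by group
      _ = g * ((g⁻¹ * u * g) * v) * g⁻¹ := by rw [h4.eq]
      _ = u * (g * v * g⁻¹) := by group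
  · rw [← hv]
    exact orderOf_injective (MulAut.conj g).toMonoidHom (MulAut.conj g).injective v

/-- general form of Lemma Q -/
theorem dvd_card_cm {s : ℕ} (hs : s.Prime) (hs2 : ¬ s ^ 2 ∣ Nat.card G) {u v y : G}
    (hsol : Group.IsSolvable (Cm u)) (hv : orderOf v = s) (huv : u * v = v * u)
    (hg' : ∀ p i : ℕ, p.Prime → p ≠ s → 0 < i → p ^ i ∣ Nat.card (Cm u) → ¬ s ∣ p ^ i - 1)
    (huy : u * y = y * u) (hy : Nat.Coprime (orderOf y) (s - 1)) : s ∣ Nat.card (Cm y) := by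
  have h1 : y ∈ Nm v := nm_le_nm_of_solvable hs hs2 hsol hv huv hg' (cm_le_nm u (mem_cent.2 huy.symm))
  have h2 := mem_cm_of_mem_nm hs hv h1 hy
  have h0 : orderOf (⟨v, mem_cent.2 (mem_cent.1 h2).symm⟩ : Cm y) = s := by rw [← hv, ← orderOf_coe]
  exact h0 ▸ orderOf_dvd_natCard _

/-- an involution `τ` such that `⟨τ⟩` contains the 2-elements commuting with `τ` -/
theorem not_four_dvd {τ : G} (hτ : orderOf τ = 2)
    (h : ∀ z : G, z * τ = τ * z → (∃ n, z ^ 2 ^ n = 1) → z = 1 ∨ z = τ) : ¬ 4 ∣ Nat.card G := by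
  intro hd
  have hf : Fact (Nat.Prime 2) := ⟨Nat.prime_two⟩
  have hZ : IsPGroup 2 (zpowers τ) := by
    rw [IsPGroup.iff_card]
    exact ⟨1, by rw [Nat.card_zpowers, hτ, pow_one]⟩
  obtain ⟨P, hP⟩ := hZ.exists_le_sylow
  have h1 : 2 ^ 2 ∣ Nat.card (P : Subgroup G) := P.pow_dvd_card_of_pow_dvd_card (by norm_num; exact hd)
  have hτP : τ ∈ (P : Subgroup G) := hP (mem_zpowers τ)
  have hnt : Nontrivial (P : Subgroup G) := by
    refine ⟨⟨⟨τ, hτP⟩, 1, fun e => ?_⟩⟩
    have e1 : τ = 1 := congrArg Subtype.val e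
    rw [e1, orderOf_one] at hτ
    norm_num at hτ
  have hpow : ∀ z : (P : Subgroup G), ∃ n, (z : G) ^ 2 ^ n = 1 := by
    intro z
    obtain ⟨n, hn⟩ := P.2 z
    exact ⟨n, congrArg Subtype.val hn⟩
  have hcen := P.2.center_nontrivial
  obtain ⟨z, hz⟩ := exists_ne (1 : center (P : Subgroup G))
  have hzc := mem_center_iff.1 z.2
  have hz1 : (z : (P : Subgroup G)) = ⟨τ, hτP⟩ := by
    have h2 : ((z : (P : Subgroup G)) : G) * τ = τ * (z : (P : Subgroup G)) :=
      (congrArg Subtype.val (hzc ⟨τ, hτP⟩)).symm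
    rcases h _ h2 (hpow _) with h3 | h3
    · exact absurd (Subtype.ext (Subtype.ext h3)) hz
    · exact Subtype.ext h3
  have hall : ∀ x : (P : Subgroup G), x = 1 ∨ x = ⟨τ, hτP⟩ := by
    intro x
    have h2 : (x : G) * τ = τ * x := by
      have := hzc x
      rw [hz1] at this
      exact congrArg Subtype.val this
    rcases h _ h2 (hpow _) with h3 | h3
    · exact Or.inl (Subtype.ext h3)
    · exact Or.inr (Subtype.ext h3)
  have hle : Nat.card (P : Subgroup G) ≤ 2 := by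
    have h2 : Nat.card (P : Subgroup G) ≤ Nat.card (Fin 2) := by
      refine Nat.card_le_card_of_surjective (fun i : Fin 2 => if i = 0 then (1 : (P : Subgroup G)) else ⟨τ, hτP⟩) ?_
      intro x
      rcases hall x with h3 | h3
      · exact ⟨0, by simp [h3]⟩
      · exact ⟨1, by simp [h3]⟩
    have h3 : Nat.card (Fin 2) = 2 := by rw [Nat.card_eq_fintype_card, Fintype.card_fin]
    rwa [h3] at h2
  have := Nat.le_of_dvd Nat.card_pos h1
  omega

/-- **Lemma Q** -/
theorem not_adj_of_cent {r s : ℕ} (hr : r.Prime) (hs : s.Prime) (hr2 : ¬ r ^ 2 ∣ Nat.card G)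
    (hs2 : ¬ s ^ 2 ∣ Nat.card G) (nr : NA r G)
    (hg : ∀ p i : ℕ, p.Prime → p ≠ s → p ≠ 2 → 0 < i → p ^ i ∣ Nat.card G → ¬ s ∣ p ^ i - 1) {u y : G}
    (hu : orderOf u = r) (huy : u * y = y * u) (hy : Nat.Coprime (orderOf y) (s - 1))
    (hc : ¬ s ∣ Nat.card (Cm y)) : ¬ Adj G r s := by
  intro hadj
  obtain ⟨v, hv, huv⟩ := exists_comm_of_adj hr hs hr2 hu hadj
  have h1 : y ∈ Nm v := nm_le_nm hs hs2 nr hu hv huv hg (cm_le_nm u (mem_cent.2 huy.symm))
  have h2 := mem_cm_of_mem_nm hs hv h1 hy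
  apply hc
  have h0 : orderOf (⟨v, mem_cent.2 (mem_cent.1 h2).symm⟩ : Cm y) = s := by rw [← hv, ← orderOf_coe]
  exact h0 ▸ orderOf_dvd_natCard _

end Cfsg.Agent.H149.Sp.Eng

namespace Cfsg.Agent.H149.Sp

open Cfsg.Agent.H163.PG Cfsg.Agent.H393.Iso

theorem card_out_congr {X Y : Type*} [Group X] [Group Y] (e : X ≃* Y) :
    Nat.card (Cfsg.Out X) = Nat.card (Cfsg.Out Y) := H498.SporOut.index_congr e

theorem not_adj_two {G : Type*} [Group G] {p : ℕ} (hp : p.Prime) (h : NA p G) : ¬ Adj G 2 p := by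
  rintro ⟨g, hg⟩
  exact NA.ne_two_mul hp h g hg

end Cfsg.Agent.H149.Sp
end
end
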