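import Cfsg.Agent.H149.Sp.Leech
import Cfsg.Agent.H149.Sp.Quot
import Cfsg.Agent.H603.SporElim
import Cfsg.Agent.H813.SuzQuot
import Cfsg.Agent.H45.Thin.Leech
import Cfsg.Agent.CoOneType.Thirteen
import Mathlib
import Cfsg.Agent.Prune
set_option linter.all false
prune_inst 0x7f00000000000000000000000000000000000000000000000000000000000000000000000000000000000000000000000000000000000000000000000000000000000000000000000000000000000000003fffffffffffffffffffffffffffbeffbdffffffff
open scoped Cfsg.Agent.FastGrp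

/-!
# `Has3Out` for `Co1`, `Co2`, `Co3`, `McL`, `HS`, `Suz`, `M22`, `M23`, `M24`
-/

set_option autoImplicit false

namespace Cfsg.Agent.H149.Sp

open Cfsg Cfsg.Agent.H163.PG
open Cfsg.Agent.SporadicA.Co0Mono (permCo0)

theorem p5 : P5 5 := Or.inl rfl
theorem p7 : P5 7 := Or.inr (Or.inl rfl)
theorem p11 : P5 11 := Or.inr (Or.inr (Or.inl rfl))
theorem p13 : P5 13 := Or.inr (Or.inr (Or.inr (Or.inl rfl)))
theorem p23 : P5 23 := Or.inr (Or.inr (Or.inr (Or.inr rfl)))

/-- subgroups of `Co0` -/
theorem not_adj_of_emb {G : Type*} [Group G] (f : G →* Co0) (hf : Function.Injective f) {p q : ℕ} (hp : P5 p) (hq : P5 q)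
    (hpq : p < q) (h57 : ¬ (p = 5 ∧ q = 7)) : ¬ Adj G p q := by
  apply not_adj_of_not_comm hp.prime hq.prime
  intro x y hx hy hc
  refine co0_not_comm hp hq hpq h57 (a := f x) (b := f y) ?_ ?_ ?_
  · rw [orderOf_injective f hf, hx]
  · rw [orderOf_injective f hf, hy]
  · rw [← map_mul, hc, map_mul]

theorem not_adj_57 {G : Type*} [Group G] (f : G →* Co0) (hf : Function.Injective f) {v : leechLattice} (hv : v ≠ 0)
    (hfix : ∀ g, f g • v = v) : ¬ Adj G 5 7 := by
  apply not_adj_of_not_comm (by norm_num) (by norm_num)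
  intro x y hx hy hc
  refine co0_not_comm_fix hv (hfix x) (hfix y) ?_ ?_ ?_
  · rw [orderOf_injective f hf, hx]
  · rw [orderOf_injective f hf, hy]
  · rw [← map_mul, hc, map_mul]

theorem leechU_ne : Spor.leechU ≠ 0 := by
  intro h
  have h1 := congrArg (fun v : leechLattice => (v : GolayPt → ℤ) none) h
  have h2 : Spor.vecU none = 0 := h1
  simp [Spor.vecU] at h2

theorem leechV_ne : Spor.leechV ≠ 0 := by
  intro h
  have h1 := congrArg (fun v : leechLattice => (v : GolayPt → ℤ) none) h
  have h2 : Spor.vecV none = 0 := h1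
  simp [Spor.vecV] at h2

/-! ### Conway groups -/

theorem has3Out_co1 {G : Type*} [Group G] [Finite G] (h : Spor.IsoCo1 G) (hs : IsSporadicGroup G) : Has3Out G := by
  have hn : ∀ p q : ℕ, P5 p → P5 q → p < q → ¬ (p = 5 ∧ q = 7) → ¬ Adj G p q := by
    intro p q hp hq hpq h57 hadj
    obtain ⟨e⟩ := h
    obtain ⟨x, y, hx, hy, hxy⟩ := ((adj_congr e).1 hadj).exists_commute hp.prime hq.prime
    exact co1_not_comm hp hq hpq h57 hx hy hxy
  exact has3Out_of_odd hs (p := 7) (q := 11) (r := 23) (by norm_num) (by norm_num) (by norm_num) (by norm_num)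
    (by norm_num) (by norm_num) (by rw [NotCT.Orders.co1 h]; norm_num) (hn 7 11 p7 p11 (by norm_num) (by norm_num))
    (hn 11 23 p11 p23 (by norm_num) (by norm_num)) (hn 7 23 p7 p23 (by norm_num) (by norm_num))

theorem has3Out_of_emb {G : Type*} [Group G] [Finite G] (hs : IsSporadicGroup G) (f : G →* Co0)
    (hf : Function.Injective f) (hd : 7 * (11 * 23) ∣ Nat.card G) : Has3Out G :=
  has3Out_of_odd hs (p := 7) (q := 11) (r := 23) (by norm_num) (by norm_num) (by norm_num) (by norm_num)
    (by norm_num) (by norm_num) hd (not_adj_of_emb f hf p7 p11 (by norm_num) (by norm_num))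
    (not_adj_of_emb f hf p11 p23 (by norm_num) (by norm_num)) (not_adj_of_emb f hf p7 p23 (by norm_num) (by norm_num))

theorem has3Out_of_emb_fix {G : Type*} [Group G] [Finite G] (hs : IsSporadicGroup G) (f : G →* Co0)
    (hf : Function.Injective f) {v : leechLattice} (hv : v ≠ 0) (hfix : ∀ g, f g • v = v)
    (hd : 5 * (7 * 11) ∣ Nat.card G) : Has3Out G :=
  has3Out_of_odd hs (p := 5) (q := 7) (r := 11) (by norm_num) (by norm_num) (by norm_num) (by norm_num)
    (by norm_num) (by norm_num) hd (not_adj_57 f hf hv hfix)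
    (not_adj_of_emb f hf p7 p11 (by norm_num) (by norm_num)) (not_adj_of_emb f hf p5 p11 (by norm_num) (by norm_num))

theorem has3Out_co2 {G : Type*} [Group G] [Finite G] (h : Spor.IsoCo2 G) (hs : IsSporadicGroup G) : Has3Out G := by
  have hd : 7 * (11 * 23) ∣ Nat.card G := by rw [NotCT.Orders.co2 h]; norm_num
  obtain ⟨e⟩ := h
  exact has3Out_of_emb hs ((Subgroup.inclusion (inf_le_left : Spor.Co2 ≤ Co0)).comp e.toMonoidHom)
    ((Subgroup.inclusion_injective (inf_le_left : Spor.Co2 ≤ Co0)).comp e.injective) hd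

theorem has3Out_co3 {G : Type*} [Group G] [Finite G] (h : Spor.IsoCo3 G) (hs : IsSporadicGroup G) : Has3Out G := by
  have hd : 7 * (11 * 23) ∣ Nat.card G := by rw [NotCT.Orders.co3 h]; norm_num
  obtain ⟨e⟩ := h
  exact has3Out_of_emb hs ((Subgroup.inclusion (inf_le_left : Spor.Co3 ≤ Co0)).comp e.toMonoidHom)
    ((Subgroup.inclusion_injective (inf_le_left : Spor.Co3 ≤ Co0)).comp e.injective) hd

theorem has3Out_mcl {G : Type*} [Group G] [Finite G] (h : Spor.IsoMcL G) (hs : IsSporadicGroup G) : Has3Out G := by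
  have hd : 5 * (7 * 11) ∣ Nat.card G := by rw [NotCT.Orders.mcl h]; norm_num
  obtain ⟨e⟩ := h
  exact has3Out_of_emb_fix hs ((Subgroup.inclusion (inf_le_left.trans inf_le_left : Spor.McL ≤ Co0)).comp e.toMonoidHom)
    ((Subgroup.inclusion_injective (inf_le_left.trans inf_le_left : Spor.McL ≤ Co0)).comp e.injective) leechU_ne (fun g => (e g).2.2) hd

theorem has3Out_hs {G : Type*} [Group G] [Finite G] (h : Spor.IsoHS G) (hs : IsSporadicGroup G) : Has3Out G := by
  have hd : 5 * (7 * 11) ∣ Nat.card G := by rw [NotCT.Orders.hs h]; norm_num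
  obtain ⟨e⟩ := h
  exact has3Out_of_emb_fix hs ((Subgroup.inclusion (inf_le_left.trans inf_le_left : Spor.HS ≤ Co0)).comp e.toMonoidHom)
    ((Subgroup.inclusion_injective (inf_le_left.trans inf_le_left : Spor.HS ≤ Co0)).comp e.injective) leechV_ne (fun g => (e g).2.1.2) hd

theorem has3Out_suz {G : Type*} [Group G] [Finite G] (h : Spor.IsoSuz G) (hs : IsSporadicGroup G) : Has3Out G := by
  have hn : ∀ p q : ℕ, P5 p → P5 q → p < q → ¬ (p = 5 ∧ q = 7) → ¬ Adj G p q := by
    intro p q hp hq hpq h57 hadj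
    obtain ⟨e⟩ := h
    obtain ⟨e'⟩ := LThreeCo1Suz.Main.t0
    have h1 := (adj_congr (e.trans e'.symm)).1 hadj
    have hfin : Finite Spor.Co1 := by
      have : Finite Co0 := Cfsg.Agent.CoOneType.FrameFix.finite_co0
      exact Quotient.finite _
    have h2 := adj_of_surjective (QuotientGroup.mk' _) (QuotientGroup.mk'_surjective _) h1
    obtain ⟨x, y, hx, hy, hxy⟩ := h2.of_subgroup.exists_commute hp.prime hq.prime
    exact co1_not_comm hp hq hpq h57 hx hy hxy
  exact has3Out_of_odd hs (p := 7) (q := 11) (r := 13) (by norm_num) (by norm_num) (by norm_num) (by norm_num)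
    (by norm_num) (by norm_num) (by rw [NotCT.Orders.suz h]; norm_num) (hn 7 11 p7 p11 (by norm_num) (by norm_num))
    (hn 11 13 p11 p13 (by norm_num) (by norm_num)) (hn 7 13 p7 p13 (by norm_num) (by norm_num))

/-! ### Mathieu groups -/

theorem has3Out_m24 {G : Type*} [Group G] [Finite G] (h : Spor.IsoM24 G) (hs : IsSporadicGroup G) : Has3Out G := by
  have hd : 7 * (11 * 23) ∣ Nat.card G := by rw [NotCT.Orders.m24 h]; norm_num
  obtain ⟨e⟩ := h
  exact has3Out_of_emb hs (permCo0.comp e.toMonoidHom) (CoOneType.Thirteen.permCo0_injective.comp e.injective) hd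

theorem has3Out_m23 {G : Type*} [Group G] [Finite G] (h : Spor.IsoM23 G) (hs : IsSporadicGroup G) : Has3Out G := by
  have hd : 7 * (11 * 23) ∣ Nat.card G := by rw [NotCT.Orders.m23 h]; norm_num
  obtain ⟨e⟩ := h
  exact has3Out_of_emb hs ((permCo0.comp (Subgroup.inclusion (inf_le_left : Spor.M23 ≤ M24))).comp e.toMonoidHom)
    ((CoOneType.Thirteen.permCo0_injective.comp (Subgroup.inclusion_injective _)).comp e.injective) hd

theorem has3Out_m22 {G : Type*} [Group G] [Finite G] (h : Spor.IsoM22 G) (hs : IsSporadicGroup G) : Has3Out G := by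
  have hd : 5 * (7 * 11) ∣ Nat.card G := by rw [NotCT.Orders.m22 h]; norm_num
  obtain ⟨e⟩ := h
  exact has3Out_of_emb_fix hs (H45.Thin.Leech.emb.comp e.toMonoidHom)
    ((CoOneType.Thirteen.permCo0_injective.comp (Subgroup.inclusion_injective _)).comp e.injective) leechU_ne
    (fun g => H45.Thin.Leech.emb_U (e g)) hd

end Cfsg.Agent.H149.Sp
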