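import Cfsg.Agent.H149.Sp.Quot
import Cfsg.Agent.H393.Iso.J1
import Cfsg.Agent.H393.Iso.J23
import Cfsg.Agent.H393.Iso.ON
import Cfsg.Agent.H613.Ly5.ThirtyOne
import Cfsg.Agent.H393.Iso.TitsJ4
import Cfsg.Agent.H603.SporElim
import Cfsg.Agent.Prune
set_option linter.all false
open scoped Cfsg.Agent.FastGrp

/-!
# `Has3Out` for `J1`, `J3`, `J4`, `Ly`, `ON`
-/

set_option autoImplicit false

namespace Cfsg.Agent.H149.Sp

open Subgroup Cfsg Cfsg.Agent.H163.PG Cfsg.Agent.H393.Iso
open Eng (prodL okPair okGood okKs)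

/-! ### `J1` -/

theorem na_j1_all {G : Type*} [Group G] [Finite G] (h : Spor.IsoJ1 G) {p : ℕ} (hp : ¬ p ∣ 120) : NA p G :=
  h.elim fun e =>
    have := Finite.of_equiv G e.toEquiv
    NA.of_equiv e.symm (NA.of_card fun t ht => by
      rw [SporRec.J1.EqTopC.card_cent2 H413.JOneLocal.isLocal t ht]
      exact hp)

theorem has3Out_j1 {G : Type*} [Group G] [Finite G] [IsSimpleGroup G] (h : Spor.IsoJ1 G) (hs : IsSporadicGroup G) :
    Has3Out G := by
  have hN := NotCT.Orders.j1 h
  have n7 : NA 7 G := na_j1_all h (by norm_num)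
  have n11 : NA 11 G := na_j1_all h (by norm_num)
  have n19 : NA 19 G := na_j1_all h (by norm_num)
  have h1 : ¬ Adj G 7 11 := Eng.not_adj (r := 7) (s := 11) (a := 3) (M := 2280) (L := [(3, 1), (5, 1), (19, 1)])
    (ks := [2, 5, 10]) (kills := []) (by rw [hN]) (by decide +kernel) (by norm_num) (by simp; norm_num) (by decide)
    (by decide +kernel) (by decide +kernel) (by decide +kernel) n7 n11 (by simp)
  have h2 : ¬ Adj G 11 19 := Eng.not_adj (r := 11) (s := 19) (a := 3) (M := 840) (L := [(3, 1), (5, 1), (7, 1)])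
    (ks := [2, 3, 6, 9, 18]) (kills := []) (by rw [hN]) (by decide +kernel) (by norm_num) (by simp; norm_num)
    (by decide) (by decide +kernel) (by decide +kernel) (by decide +kernel) n11 n19 (by simp)
  have h3 : ¬ Adj G 7 19 := Eng.not_adj (r := 7) (s := 19) (a := 3) (M := 1320) (L := [(3, 1), (5, 1), (11, 1)])
    (ks := [2, 3, 6, 9, 18]) (kills := []) (by rw [hN]) (by decide +kernel) (by norm_num) (by simp; norm_num)
    (by decide) (by decide +kernel) (by decide +kernel) (by decide +kernel) n7 n19 (by simp)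
  exact has3Out_of_odd hs (p := 7) (q := 11) (r := 19) (by norm_num) (by norm_num) (by norm_num) (by norm_num)
    (by norm_num) (by norm_num) (by rw [hN]; norm_num) h1 h2 h3

/-! ### `J3` -/

theorem na_j3_all {G : Type*} [Group G] [Finite G] (h : Spor.IsoJ3 G) {p : ℕ} (hp : ¬ p ∣ 1920) : NA p G := by
  obtain ⟨-, z, Q, v, ρ, n, u, F⟩ := Cfsg.Agent.KFacts.J3.exists_facts h
  refine NA.of_rep (fun s => s = z) (fun t ht ht1 => ?_) ?_
  · obtain ⟨g, hg⟩ := F.one t ht1 ht
    exact ⟨g, z, rfl, hg⟩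
  · rintro s rfl x hx hxs
    refine not_comm_of_card ?_ hx hxs
    rw [F.card_C]
    exact hp

theorem has3Out_j3 {G : Type*} [Group G] [Finite G] [IsSimpleGroup G] (h : Spor.IsoJ3 G) (hs : IsSporadicGroup G) :
    Has3Out G := by
  have hN := NotCT.Orders.j3 h
  have n17 : NA 17 G := na_j3_all h (by norm_num)
  have n19 : NA 19 G := na_j3_all h (by norm_num)
  have h1 : ¬ Adj G 5 17 := Eng.not_adj_single (s := 17) (t := 5) (a := 7) (M := 2954880)
    (L := [(3, 5), (5, 1), (19, 1)]) (ks := [2, 4, 8, 16]) (kills := []) (by rw [hN]) (by decide +kernel) (by norm_num)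
    (by simp; norm_num) (by decide) (by norm_num) (by norm_num) (by decide +kernel) (by decide +kernel) n17 (by simp)
  have h2 : ¬ Adj G 17 19 := Eng.not_adj (r := 17) (s := 19) (a := 7) (M := 155520) (L := [(3, 5), (5, 1)])
    (ks := [2, 3, 6, 9, 18]) (kills := []) (by rw [hN]) (by decide +kernel) (by norm_num) (by simp; norm_num)
    (by decide) (by decide +kernel) (by decide +kernel) (by decide +kernel) n17 n19 (by simp)
  have h3 : ¬ Adj G 5 19 := Eng.not_adj_single (s := 19) (t := 5) (a := 7) (M := 2643840)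
    (L := [(3, 5), (5, 1), (17, 1)]) (ks := [2, 3, 6, 9, 18]) (kills := []) (by rw [hN]) (by decide +kernel)
    (by norm_num) (by simp; norm_num) (by decide) (by norm_num) (by norm_num) (by decide +kernel)
    (by decide +kernel) n19 (by simp)
  exact has3Out_of_odd hs (p := 5) (q := 17) (r := 19) (by norm_num) (by norm_num) (by norm_num) (by norm_num)
    (by norm_num) (by norm_num) (by rw [hN]; norm_num) h1 h2 h3

/-! ### `O'N` -/

open Cfsg.Spor (ON) in
open Cfsg.Spor.ON (Gen) in
open Cfsg.Agent.SporadicB.ONHom Cfsg.Agent.SporadicB.ON45Word in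
theorem na_on_all {G : Type*} [Group G] [Finite G] (h : Spor.IsoON G) {p : ℕ} (hp : ¬ p ∣ 161280) : NA p G :=
  h.elim fun e => by
    have := Finite.of_equiv G e.toEquiv
    refine NA.of_equiv e.symm (NA.of_isConj (fun s => s = on .f) (fun t ht ht1 => ⟨_, rfl, ?_⟩) ?_)
    · exact (Cfsg.Agent.KFacts.ON.OneClass.one_class ht ht1).symm
    · rintro s rfl x hx hxs
      refine not_comm_of_card ?_ hx hxs
      rw [Cfsg.Agent.KFacts.ON.Cent.card_cent]
      exact hp

theorem has3Out_on {G : Type*} [Group G] [Finite G] [IsSimpleGroup G] (h : Spor.IsoON G) (hs : IsSporadicGroup G) :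
    Has3Out G := by
  have hN := NotCT.Orders.on h
  have n11 : NA 11 G := na_on_all h (by norm_num)
  have n19 : NA 19 G := na_on_all h (by norm_num)
  have n31 : NA 31 G := na_on_all h (by norm_num)
  have h1 : ¬ Adj G 19 31 := Eng.not_adj (r := 19) (s := 31) (a := 9) (M := 782369280)
    (L := [(3, 4), (5, 1), (7, 3), (11, 1)]) (ks := [2, 3, 5, 6, 10, 15, 30]) (kills := []) (by rw [hN])
    (by decide +kernel) (by norm_num) (by simp; norm_num)
    (by decide) (by decide +kernel) (by decide +kernel) (by decide +kernel) n19 n31 (by simp)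
  have h2 : ¬ Adj G 11 31 := Eng.not_adj (r := 11) (s := 31) (a := 9) (M := 1351365120)
    (L := [(3, 4), (5, 1), (7, 3), (19, 1)]) (ks := [2, 3, 5, 6, 10, 15, 30]) (kills := [19]) (by rw [hN])
    (by decide +kernel) (by norm_num) (by simp; norm_num)
    (by decide) (by decide +kernel) (by decide +kernel) (by decide +kernel) n11 n31 (by simpa using ⟨by norm_num, h1⟩)
  have h3 : ¬ Adj G 19 11 := Eng.not_adj (r := 19) (s := 11) (a := 9) (M := 2204858880)
    (L := [(3, 4), (5, 1), (7, 3), (31, 1)]) (ks := [2, 5, 10]) (kills := [31]) (by rw [hN])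
    (by decide +kernel) (by norm_num) (by simp; norm_num)
    (by decide) (by decide +kernel) (by decide +kernel) (by decide +kernel) n19 n11
    (by simpa using ⟨by norm_num, fun h => h2 h.symm⟩)
  exact has3Out_of_odd hs (p := 11) (q := 19) (r := 31) (by norm_num) (by norm_num) (by norm_num) (by norm_num)
    (by norm_num) (by norm_num) (by rw [hN]; norm_num) (fun h => h3 h.symm) h1 h2

/-! ### `Ly` -/

theorem na_ly_all {G : Type*} [Group G] [Finite G] (h : Spor.IsoLy G) {p : ℕ} (hp : p.Prime) (hp2 : p ≠ 2)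
    (hn : 11 < p) : NA p G := by
  obtain ⟨-, -, -, ⟨L⟩⟩ := Cfsg.Agent.TypeM.FactsLy.facts h
  exact na_of_mt hp hp2 hn L

theorem has3Out_ly {G : Type*} [Group G] [Finite G] [IsSimpleGroup G] (h : Spor.IsoLy G) (_ : IsSporadicGroup G) :
    Has3Out G := by
  have hN := NotCT.Orders.ly h
  have n37 : NA 37 G := na_ly_all h (by norm_num) (by norm_num) (by norm_num)
  have n67 : NA 67 G := na_ly_all h (by norm_num) (by norm_num) (by norm_num)
  have h1 : ¬ Adj G 37 67 := Eng.not_adj (r := 37) (s := 67) (a := 8) (M := 20881476000000)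
    (L := [(3, 7), (5, 6), (7, 1), (11, 1), (31, 1)]) (ks := [2, 3, 6, 11, 22, 33, 66]) (kills := []) (by rw [hN])
    (by decide +kernel) (by norm_num) (by simp; norm_num)
    (by decide) (by decide +kernel) (by decide +kernel) (by decide +kernel) n37 n67 (by simp)
  have ho : Nat.card (Cfsg.Out G) = 1 := h.elim fun e => (card_out_congr e).trans S2076.result
  exact has3Out_of_one ho (p := 2) (q := 37) (r := 67) (by norm_num) (by norm_num) (by norm_num)
    (by norm_num) (by norm_num) (by rw [hN]; norm_num) (not_adj_two (by norm_num) n37) h1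
    (not_adj_two (by norm_num) n67)

/-! ### `J4` -/

theorem j4_29_37 {G : Type*} [Group G] [Finite G] [IsSimpleGroup G] (h : Spor.IsoJ4 G) : ¬ Adj G 37 29 := by
  have hN := NotCT.Orders.j4 h
  have n29 : NA 29 G := na_j4_29 h
  have n37 : NA 37 G := na_j4_37 h
  have hN1 : Nat.card G = 37 * 29 * 80871920825794560 := by rw [hN]
  have hp : ∀ x ∈ [(2, 21), (3, 3), (5, 1), (7, 1), (11, 3), (23, 1), (29, 1), (31, 1), (37, 1), (43, 1)],
      Nat.Prime x.1 := by simp; norm_num
  have hL : Nat.card G = prodL [(2, 21), (3, 3), (5, 1), (7, 1), (11, 3), (23, 1), (29, 1), (31, 1), (37, 1), (43, 1)] := by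
    rw [hN]
    decide +kernel
  have hg : ∀ s, okGood [(2, 21), (3, 3), (5, 1), (7, 1), (11, 3), (23, 1), (29, 1), (31, 1), (37, 1), (43, 1)] s = true →
      ∀ p i : ℕ, p.Prime → p ≠ s → p ≠ 2 → 0 < i → p ^ i ∣ Nat.card G → ¬ s ∣ p ^ i - 1 := fun s hs =>
    Eng.good_of_ok hp (by decide) hs hL
  intro hadj
  obtain ⟨u, v, hu, hv, huv⟩ := hadj.exists_commute (by norm_num) (by norm_num)
  obtain ⟨c, k, hC, hcard, hc, hk, hk1, hi, -⟩ := Eng.pair (r := 37) (s := 29) (by norm_num) (by norm_num) (by norm_num)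
    (by rw [hN]; norm_num) (by rw [hN]; norm_num) n37 n29 (hg 29 (by decide +kernel)) hu hv huv
  have h1 : c * k * (Eng.Nm v).index = 80871920825794560 := by
    have h2 := (Eng.Nm v).card_mul_index
    rw [hcard, hN1] at h2
    apply Nat.eq_of_mul_eq_mul_left (show 0 < 37 * 29 by norm_num)
    rw [← h2]
    ring
  have h3 := Eng.okPair_spec (L := [(3, 3), (5, 1), (7, 1), (11, 3), (23, 1), (31, 1), (43, 1)]) (a := 21)
    (ks := [2, 4, 7, 14, 28]) (m := 37 * 29) (bad := fun c => c == 27 * 5 * 11 * 23 * 31) (by simp; norm_num)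
    (by decide +kernel) (by norm_num) (by decide +kernel) hc (Eng.okKs_spec (s := 29) (by decide) (by norm_num) hk hk1)
    h1 hi
  have hc' : c = 27 * 5 * 11 * 23 * 31 := by simpa using h3
  -- an element of order 31
  have hf31 : Fact (Nat.Prime 31) := ⟨by norm_num⟩
  obtain ⟨w, hw⟩ := exists_prime_orderOf_dvd_card' (G := Eng.Cm v) 31 (by rw [hC, hc']; norm_num)
  have hw' : orderOf (w : G) = 31 := by rw [orderOf_coe, hw]
  have hsq31 : ¬ 31 ^ 2 ∣ Nat.card G := by rw [hN]; norm_num
  have h4 : Eng.Nm v ≤ Eng.Nm (w : G) := Eng.nm_le_nm (by norm_num) hsq31 n29 hv hw'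
    (mem_cent.1 w.2).symm (hg 31 (by decide +kernel))
  have h5 : (Eng.Nm (w : G)).index % 31 = 1 := Eng.index_nm_mod (by norm_num) hsq31 hw'
  have h6 : (Eng.Nm (w : G)).index % 29 = 1 := Eng.index_mod_of_le (by norm_num) (by rw [hN]; norm_num) hv h4
  have h7 : (Eng.Nm (w : G)).index ∣ (Eng.Nm v).index := index_dvd_of_le h4
  have h8 : (Eng.Nm (w : G)).index ∣ prodL [(2, 21), (7, 1), (11, 2), (43, 1)] := by
    refine h7.trans ((dvd_mul_left _ k).trans (Dvd.intro_left 1 ?_))
    have h9 : c * (k * (Eng.Nm v).index) = c * prodL [(2, 21), (7, 1), (11, 2), (43, 1)] := by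
      rw [← mul_assoc, h1, hc']
      decide +kernel
    rw [one_mul]
    exact Nat.eq_of_mul_eq_mul_left (by rw [hc']; norm_num) h9
  have h9 := Eng.mem_divs (by simp; norm_num) h8
  have h10 : ∀ e ∈ Eng.divs [(2, 21), (7, 1), (11, 2), (43, 1)], e % 31 = 1 → e % 29 = 1 → e = 1 := by decide +kernel
  have h11 := h10 _ h9 h5 h6
  rw [index_eq_one] at h11
  -- `⟨w⟩` is normal
  have h12 : (zpowers (w : G)).Normal := normalizer_eq_top_iff.1 h11
  rcases IsSimpleGroup.eq_bot_or_eq_top_of_normal _ h12 with h13 | h13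
  · rw [zpowers_eq_bot] at h13
    rw [h13, orderOf_one] at hw'
    norm_num at hw'
  · have h14 := Nat.card_zpowers (w : G)
    rw [h13, card_top, hN, hw'] at h14
    norm_num at h14

theorem has3Out_j4 {G : Type*} [Group G] [Finite G] [IsSimpleGroup G] (h : Spor.IsoJ4 G) (_ : IsSporadicGroup G) :
    Has3Out G := by
  have hN := NotCT.Orders.j4 h
  have ho : Nat.card (Cfsg.Out G) = 1 := h.elim fun e => (card_out_congr e).trans S2068.result
  exact has3Out_of_one ho (p := 2) (q := 29) (r := 37) (by norm_num) (by norm_num) (by norm_num)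
    (by norm_num) (by norm_num) (by rw [hN]; norm_num) (not_adj_two (by norm_num) (na_j4_29 h))
    (fun h' => j4_29_37 h h'.symm) (not_adj_two (by norm_num) (na_j4_37 h))

end Cfsg.Agent.H149.Sp
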