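import Cfsg.Agent.H149.Sp.Quot
import Cfsg.Agent.H635.Inv.MonFi
import Cfsg.Agent.H393.Iso.Monster
import Cfsg.Agent.H603.SporElim
import Cfsg.Agent.S1698
import Cfsg.Agent.Prune
set_option linter.all false
prune_inst 0x7f00000000000000000000000000000000000000000000000000000000000000000000000000000000000000000000000000000000000000000000000000000000000000000000000000000000000000003fffffffffffffffffffffffffffbeffbdffffffff
open scoped Cfsg.Agent.FastGrp

/-!
# `Has3Out` for the Monster
-/

set_option autoImplicit false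

namespace Cfsg.Agent.H149.Sp

open Subgroup Cfsg Cfsg.Agent.H163.PG Cfsg.Agent.H393.Iso
open Cfsg.Agent.MonsterX
open Eng (prodL okPair okGood okKs)

theorem card_commutator_fi24 : Nat.card ↥(_root_.commutator Spor.Fi24) = 1255205709190661721292800 :=
  Cfsg.Agent.S1698.result.2

/-- elements `u`, `y` of orders 29 and 3 with `C(y) / ⟨y⟩ ≅ Fi24'` -/
theorem exists_m : ∃ u y : ↥InstData.M.G, orderOf u = 29 ∧ orderOf y = 3 ∧ u * y = y * u ∧
    Nat.card (centralizer ({y} : Set ↥InstData.M.G)) = 3 * 1255205709190661721292800 := by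
  obtain ⟨y, t, π, D⟩ := H849.FiModel.exists_data
  have hcard : Nat.card (centralizer ({y} : Set ↥InstData.M.G)) = 3 * 1255205709190661721292800 := by
    have h1 := π.ker.card_mul_index
    rw [index_ker, MonoidHom.range_eq_top.2 D.surj, card_top, card_commutator_fi24] at h1
    rw [← h1]
    congr 1
    have h2 : π.ker = (zpowers y).subgroupOf (centralizer ({y} : Set ↥InstData.M.G)) := by
      ext k
      rw [MonoidHom.mem_ker, D.ker, mem_subgroupOf]
    have h3 : zpowers y ≤ centralizer ({y} : Set ↥InstData.M.G) := by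
      rw [zpowers_le]
      exact mem_centralizer_singleton_iff.2 rfl
    rw [h2, Nat.card_congr (subgroupOfEquivOfLe h3).toEquiv, Nat.card_zpowers, D.ord]
  have hf : Fact (Nat.Prime 29) := ⟨by norm_num⟩
  have hfin : Finite (centralizer ({y} : Set ↥InstData.M.G)) := Nat.finite_of_card_ne_zero (by rw [hcard]; norm_num)
  obtain ⟨u, hu⟩ := exists_prime_orderOf_dvd_card' (G := centralizer ({y} : Set ↥InstData.M.G)) 29
    (by rw [hcard]; norm_num)
  exact ⟨u, y, by rw [orderOf_coe, hu], D.ord, mem_centralizer_singleton_iff.1 u.2, hcard⟩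

theorem exists_m_of_iso {G : Type*} [Group G] (h : Spor.IsoM G) : ∃ u y : G, orderOf u = 29 ∧ orderOf y = 3 ∧
    u * y = y * u ∧ Nat.card (centralizer ({y} : Set G)) = 3 * 1255205709190661721292800 := by
  obtain ⟨e⟩ := h
  obtain ⟨f⟩ := Cfsg.Agent.MonsterP.Equiv.equiv
  obtain ⟨u, y, hu, hy, huy, hc⟩ := exists_m
  let g := (e.trans f).symm
  refine ⟨g u, g y, ?_, ?_, ?_, ?_⟩
  · rw [← hu]
    exact orderOf_injective g.toMonoidHom g.injective u
  · rw [← hy]
    exact orderOf_injective g.toMonoidHom g.injective y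
  · rw [← map_mul, huy, map_mul]
  · rw [← hc]
    have h1 : centralizer ({g y} : Set G) = (centralizer ({y} : Set ↥InstData.M.G)).map g.toMonoidHom := by
      ext x
      rw [mem_map_equiv, mem_centralizer_singleton_iff, mem_centralizer_singleton_iff]
      constructor
      · intro h
        apply g.injective
        rw [map_mul, map_mul, g.apply_symm_apply, h]
      · intro h
        have h2 := congrArg g h
        rwa [map_mul, map_mul, g.apply_symm_apply] at h2
    rw [h1]
    exact card_map_of_injective g.injective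

theorem m_29_59 {G : Type*} [Group G] [Finite G] (h : Spor.IsoM G) : ¬ Adj G 29 59 := by
  have hN := NotCT.Orders.m h
  obtain ⟨u, y, hu, hy, huy, hc⟩ := exists_m_of_iso h
  have hp : ∀ x ∈ [(2, 46), (3, 20), (5, 9), (7, 6), (11, 2), (13, 3), (17, 1), (19, 1), (23, 1), (29, 1), (31, 1),
      (41, 1), (47, 1), (59, 1), (71, 1)], Nat.Prime x.1 := by simp; norm_num
  have hL : Nat.card G = prodL [(2, 46), (3, 20), (5, 9), (7, 6), (11, 2), (13, 3), (17, 1), (19, 1), (23, 1), (29, 1),
      (31, 1), (41, 1), (47, 1), (59, 1), (71, 1)] := by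
    rw [hN]
    decide +kernel
  exact Eng.not_adj_of_cent (r := 29) (s := 59) (by norm_num) (by norm_num) (by rw [hN]; norm_num)
    (by rw [hN]; norm_num) (na_m h (Or.inl rfl)) (Eng.good_of_ok hp (by decide) (by decide +kernel) hL) hu huy
    (by rw [hy]; norm_num) (by rw [hc]; norm_num)

theorem has3Out_m {G : Type*} [Group G] [Finite G] (h : Spor.IsoM G) (_ : IsSporadicGroup G) :
    Has3Out G := by
  have hN := NotCT.Orders.m h
  have ho : Nat.card (Cfsg.Out G) = 1 := h.elim fun e => (card_out_congr e).trans S2085.result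
  exact has3Out_of_one ho (p := 2) (q := 29) (r := 59) (by norm_num) (by norm_num) (by norm_num)
    (by norm_num) (by norm_num) (by rw [hN]; norm_num) (not_adj_two (by norm_num) (na_m h (Or.inl rfl)))
    (m_29_59 h) (not_adj_two (by norm_num) (na_m h (Or.inr (Or.inl rfl))))

end Cfsg.Agent.H149.Sp
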